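import Groth.Agent.L27.FppfCmp.Induction
import Groth.Agent.L27.Fppf.PushComm
import Groth.Agent.L27.Hom.ExtAdj
import Groth.Agent.S0071
import Groth.Prelude.Def_EtCore

/-!
# Étale against fppf cohomology
-/

universe u

open CategoryTheory CategoryTheory.Limits CategoryTheory.Abelian AlgebraicGeometry Opposite

set_option autoImplicit false
set_option backward.defeqAttrib.useBackward true
set_option backward.isDefEq.respectTransparency false
set_option backward.isDefEq.respectTransparency.types false
set_option linter.style.haveILetI false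
set_option maxHeartbeats 800000

noncomputable section

namespace Groth.L27.FppfCmp

open Groth.L10.EtDescent (InImg inImg_piEtPull isZero_Rpush_inImg)

local notation "Ke" => Scheme.etalePrecoverage
local notation "Kf" => Scheme.fppfPrecoverage

variable {S : Scheme.{u}}

instance full_incl : (incl S).Full := ⟨fun f => ⟨⟨f.hom⟩, rfl⟩⟩

instance faithful_incl : (incl S).Faithful :=
  ⟨fun h => Sheaf.hom_ext (congrArg (fun m => m.hom) h)⟩

/-- the sheaf pulled back to the big étale site is an fppf sheaf -/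
theorem isIso_unit_eps (F : EtCoh.Ab S) :
    IsIso ((BigSite.epsAdj Ke Kf S).unit.app ((BigSite.piEtPull Ke S).obj F)) := by
  let X : BigSite.Ab Kf S := ⟨(Groth.L27.Fppf.G F).obj, Groth.L27.Fppf.isSheaf F⟩
  exact (BigSite.epsAdj Ke Kf S).isIso_unit_app_of_iso (X := X)
    (Groth.L23.Big.piEtPullGIso F ≪≫ (fullyFaithfulSheafToPresheaf _ _).preimageIso (X := Groth.L27.Fppf.G F)
      (Y := (incl S).obj X) (Iso.refl _))

/-- the comparison adjunction in two steps -/
def aAdj' (S : Scheme.{u}) [EtFppf.ACont S] :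
    BigSite.piEtPull Ke S ⋙ BigSite.epsPull Ke Kf S ⊣ EtFppf.aPush S :=
  (BigSite.piEtAdj Ke S).comp (BigSite.epsAdj Ke Kf S)

/-- the comparison inverse image in two steps -/
def aPullIso (S : Scheme.{u}) [EtFppf.ACont S] :
    BigSite.piEtPull Ke S ⋙ BigSite.epsPull Ke Kf S ≅ EtFppf.aPull S :=
  (aAdj' S).leftAdjointUniq (EtFppf.aAdj S)

theorem preservesFiniteLimits_aPull (S : Scheme.{u}) [EtFppf.ACont S] : PreservesFiniteLimits (EtFppf.aPull S) := by
  haveI := Groth.L23.Big.preservesFiniteLimits_piEtPull Ke S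
  haveI := preservesFiniteLimits_epsPull (S := S)
  haveI : PreservesFiniteLimits (BigSite.piEtPull Ke S ⋙ BigSite.epsPull Ke Kf S) := comp_preservesFiniteLimits _ _
  exact preservesFiniteLimits_of_natIso (aPullIso S)

theorem inImg_aPull [EtFppf.ACont S] (F : EtCoh.Ab S) : InImg ((incl S).obj ((EtFppf.aPull S).obj F)) :=
  (inImg_piEtPull F).of_iso (@asIso _ _ _ _ _ (isIso_unit_eps F) ≪≫ (incl S).mapIso ((aPullIso S).app F))

/-- the unit is bijective -/
theorem isIso_aAdj_unit (S : Scheme.{u}) [EtFppf.ACont S] (F : EtCoh.Ab S) : IsIso ((EtFppf.aAdj S).unit.app F) := by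
  haveI := Groth.L23.Big.isIso_unit_small S AddCommGrpCat.{u + 1}
  haveI := isIso_unit_eps F
  have h : IsIso ((aAdj' S).unit.app F) := by
    rw [aAdj', Adjunction.comp_unit_app]
    haveI : IsIso ((BigSite.resEt Ke S).map ((BigSite.epsAdj Ke Kf S).unit.app ((BigSite.piEtPull Ke S).obj F))) :=
      inferInstance
    exact IsIso.comp_isIso' inferInstance this
  rw [← Adjunction.unit_leftAdjointUniq_hom_app (aAdj' S) (EtFppf.aAdj S) F]
  haveI : IsIso ((EtFppf.aPush S).map (((aAdj' S).leftAdjointUniq (EtFppf.aAdj S)).hom.app F)) := inferInstance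
  exact IsIso.comp_isIso' h inferInstance

/-- resolutions of pulled back sheaves are exact on the small site in positive degrees -/
theorem isZero_RaPush (S : Scheme.{u}) [EtFppf.ACont S] (F : EtCoh.Ab S) (q : ℕ) (hq : 0 < q) :
    IsZero ((EtFppf.RaPush S q).obj ((EtFppf.aPull S).obj F)) := by
  obtain ⟨k, rfl⟩ := Nat.exists_eq_succ_of_ne_zero hq.ne'
  let L := injectiveResolution ((EtFppf.aPull S).obj F)
  refine IsZero.of_iso ?_ (L.isoRightDerivedObj (EtFppf.aPush S) (k + 1))
  rw [HomologicalComplex.homologyFunctor_obj, ← HomologicalComplex.exactAt_iff_isZero_homology]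
  have h : (inclN L).ExactAt (k + 1) :=
    ((inclN L).extend_exactAt_iff ComplexShape.embeddingUpNat (j := k + 1) rfl).1
      (exactAt_inclZ L (inImg_aPull F) ((k + 1 : ℕ) : ℤ) (by omega))
  exact h.map (BigSite.resEt Ke S)

/-- the fppf constant sheaf -/
def constAIso (S : Scheme.{u}) [EtFppf.ACont S] :
    constantSheaf S.smallEtaleTopology AddCommGrpCat.{u + 1} ⋙ EtFppf.aPull S ≅
      constantSheaf (EtFppf.J S) AddCommGrpCat.{u + 1} :=
  (((EtCore.constAdj S).comp (EtFppf.aAdj S)).ofNatIsoRight
      (Iso.refl ((sheafSections (EtFppf.J S) AddCommGrpCat.{u + 1}).obj (op (Over.mk (𝟙 S)))))).leftAdjointUniq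
    (constantSheafAdj (EtFppf.J S) AddCommGrpCat.{u + 1} Over.mkIdTerminal)

/-- étale and fppf cohomology agree -/
theorem nonempty_H_equiv (S : Scheme.{u}) [EtFppf.ACont S] (F : EtCoh.Ab S) (q : ℕ) :
    Nonempty (EtCoh.H S F q ≃+ EtFppf.HF S ((EtFppf.aPull S).obj F) q) := by
  haveI := preservesFiniteLimits_aPull S
  haveI : PreservesFiniteColimits (EtFppf.aPull S) :=
    haveI := (EtFppf.aAdj S).leftAdjoint_preservesColimits
    inferInstance
  haveI : (EtFppf.aPull S).Additive := (EtFppf.aAdj S).left_adjoint_additive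
  haveI : PreservesFiniteLimits (EtFppf.aPush S) :=
    haveI := (EtFppf.aAdj S).rightAdjoint_preservesLimits
    inferInstance
  haveI := isIso_aAdj_unit S F
  let A := EtCoh.const S ℤ
  let Z := AddCommGrpCat.of (ULift.{u + 1} ℤ)
  let G := (EtFppf.aPull S).obj F
  have hb := Groth.L27.ExtAdj.bijective_phi.{u + 1, u + 1} (EtFppf.aAdj S) (A := A) q G
    (fun r hr => isZero_RaPush S F r hr)
  let ψ : EtFppf.HF S G q → Ext.{u + 1} ((EtFppf.aPull S).obj A) G q := fun x =>
    (Ext.mk₀ ((constAIso S).app Z).hom).comp x (zero_add q)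
  let e₁ : EtCoh.H S F q ≃+ Ext.{u + 1} A ((EtFppf.aPush S).obj G) q :=
    { toFun := fun x => Ext.comp x (Ext.mk₀ ((EtFppf.aAdj S).unit.app F)) (add_zero q)
      invFun := fun x => x.comp (Ext.mk₀ (inv ((EtFppf.aAdj S).unit.app F))) (add_zero q)
      left_inv := fun x => by simp
      right_inv := fun x => by simp
      map_add' := fun x y => Ext.add_comp _ _ _ _ }
  let e₂ : Ext.{u + 1} A ((EtFppf.aPush S).obj G) q ≃+ Ext.{u + 1} ((EtFppf.aPull S).obj A) G q :=
    AddEquiv.ofBijective
      (AddMonoidHom.mk' (Groth.L27.ExtAdj.phi.{u + 1, u + 1} (EtFppf.aAdj S) (A := A) G q) fun x y => by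
        simp [Groth.L27.ExtAdj.phi, Ext.mapExactFunctor_add, Ext.add_comp]) hb
  let e₃ : Ext.{u + 1} ((EtFppf.aPull S).obj A) G q ≃+ EtFppf.HF S G q :=
    { toFun := fun x => (Ext.mk₀ ((constAIso S).app Z).inv).comp x (zero_add q)
      invFun := ψ
      left_inv := fun x => by simp [ψ]
      right_inv := fun x => by simp [ψ]
      map_add' := fun x y => Ext.comp_add _ _ _ _ }
  exact ⟨e₁.trans (e₂.trans e₃)⟩

/-- an fppf resolution as a resolution on the big étale site -/
def inclRes {G0 : BigSite.Ab Kf S} (L : InjectiveResolution G0) (hG : InImg ((incl S).obj G0)) :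
    InjectiveResolution ((incl S).obj G0) where
  cocomplex := inclN L
  ι := (CochainComplex.fromSingle₀Equiv _ _).symm ⟨inclAug L, inclAug_d L⟩
  quasiIso := ⟨fun n => by
    cases n
    · rw [CochainComplex.quasiIsoAt₀_iff, ShortComplex.quasiIso_iff_of_zeros]
      · refine (ShortComplex.exact_and_mono_f_iff_of_iso ?_).2
          ⟨(exact_inclAug L).choose_spec, (exact_inclAug L).choose⟩
        exact ShortComplex.isoMk (Iso.refl _) (Iso.refl _) (Iso.refl _)
          (by
            refine (Category.id_comp _).trans (Eq.trans ?_ (Category.comp_id _).symm)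
            first
              | exact CochainComplex.fromSingle₀Equiv_symm_apply_f_zero (C := inclN L) (inclAug L) (inclAug_d L)
              | exact (CochainComplex.fromSingle₀Equiv_symm_apply_f_zero (C := inclN L) (inclAug L) (inclAug_d L)).symm)
          (by simp)
      all_goals first | rfl | exact (inclN L).shape _ _ (by simp)
    · rename_i n
      rw [quasiIsoAt_iff_exactAt]
      · exact ((inclN L).extend_exactAt_iff ComplexShape.embeddingUpNat (j := n + 1) rfl).1
          (exactAt_inclZ L hG ((n + 1 : ℕ) : ℤ) (by omega))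
      · apply CochainComplex.exactAt_succ_single_obj⟩

/-- inverse images to the fppf sites commute with higher direct images along finite morphisms -/
theorem nonempty_aPull_Rpush {X Y : Scheme.{u}} (f : X ⟶ Y) [IsFinite f] [EtFppf.ACont X] [EtFppf.ACont Y]
    (F : EtCoh.Ab X) (i : ℕ) :
    Nonempty ((EtFppf.aPull Y).obj ((EtCoh.Rpush f i).obj F) ≅
      (EtFppf.RpushBig f i).obj ((EtFppf.aPull X).obj F)) := by
  cases i with
  | zero =>
    haveI : PreservesFiniteLimits (EtFppf.pushBig f) :=
      haveI := (BigSite.bigAdj Kf f AddCommGrpCat.{u + 1}).rightAdjoint_preservesLimits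
      inferInstance
    haveI : PreservesFiniteLimits (EtCoh.push f) :=
      haveI := (EtCoh.pullPushAdj f).rightAdjoint_preservesLimits
      inferInstance
    obtain ⟨e⟩ := Groth.L27.Fppf.nonempty_aPull_push f F
    exact ⟨(EtFppf.aPull Y).mapIso ((EtCoh.push f).rightDerivedZeroIsoSelf.app F) ≪≫ e ≪≫
      ((EtFppf.pushBig f).rightDerivedZeroIsoSelf.app _).symm⟩
  | succ k =>
    haveI : (EtFppf.aPull Y).Additive := (EtFppf.aAdj Y).left_adjoint_additive
    refine ⟨((EtFppf.aPull Y).map_isZero (Groth.Agent.S0071.result f F (k + 1) (by omega))).iso ?_⟩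
    let G0 := (EtFppf.aPull X).obj F
    let L := injectiveResolution G0
    let Re := inclRes L (inImg_aPull F)
    have h0 : ((((BigSite.pushBig Ke f AddCommGrpCat.{u + 1}).mapHomologicalComplex _).obj (inclN L))).ExactAt (k + 1) := by
      rw [HomologicalComplex.exactAt_iff_isZero_homology]
      exact (isZero_Rpush_inImg f (inImg_aPull F) (k + 1) (by omega)).of_iso
        (Re.isoRightDerivedObj (BigSite.pushBig Ke f AddCommGrpCat.{u + 1}) (k + 1)).symm
    refine IsZero.of_iso ?_ (L.isoRightDerivedObj (EtFppf.pushBig f) (k + 1))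
    rw [HomologicalComplex.homologyFunctor_obj, ← HomologicalComplex.exactAt_iff_isZero_homology]
    let P := ((EtFppf.pushBig f).mapHomologicalComplex (ComplexShape.up ℕ)).obj L.cocomplex
    haveI := preservesFiniteLimits_epsPull (S := Y)
    haveI : PreservesFiniteColimits (BigSite.epsPull Ke Kf Y) :=
      haveI := (BigSite.epsAdj Ke Kf Y).leftAdjoint_preservesColimits
      inferInstance
    haveI : (BigSite.epsPull Ke Kf Y).Additive := (BigSite.epsAdj Ke Kf Y).left_adjoint_additive
    have h1 : (((incl Y).mapHomologicalComplex (ComplexShape.up ℕ)).obj P).ExactAt (k + 1) := h0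
    have h2 : (((BigSite.epsPull Ke Kf Y).mapHomologicalComplex (ComplexShape.up ℕ)).obj
        (((incl Y).mapHomologicalComplex (ComplexShape.up ℕ)).obj P)).ExactAt (k + 1) :=
      h1.map (BigSite.epsPull Ke Kf Y)
    haveI : IsIso (BigSite.epsAdj Ke Kf Y).counit := inferInstance
    exact h2.of_iso ((NatIso.mapHomologicalComplex (asIso (BigSite.epsAdj Ke Kf Y).counit) (ComplexShape.up ℕ)).app P)

end Groth.L27.FppfCmp

end
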