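import Groth.Agent.L27.FppfCmp.Core
import Groth.Agent.S8574

/-!
# Fppf resolutions of sheaves from the small étale sites are exact on the big étale sites
-/

universe u

open CategoryTheory CategoryTheory.Limits AlgebraicGeometry Opposite

set_option autoImplicit false
set_option backward.defeqAttrib.useBackward true
set_option backward.isDefEq.respectTransparency false
set_option backward.isDefEq.respectTransparency.types false
set_option linter.style.haveILetI false
set_option maxHeartbeats 800000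

namespace Groth.L27.FppfCmp

open Groth.L10.EtDescent (LExact InImg inImg_pullBig)

local notation "Ke" => Scheme.etalePrecoverage
local notation "Kf" => Scheme.fppfPrecoverage

/-- local exactness is invariant under isomorphisms -/
theorem lexact_of_iso {C : Type*} [Category C] (J : GrothendieckTopology C)
    {A B : CochainComplex (Cᵒᵖ ⥤ AddCommGrpCat) ℤ} (e : A ≅ B) (n : ℤ) (h : LExact J A n) : LExact J B n := by
  intro T z hz
  have hi : ∀ (j : ℤ) (U : Cᵒᵖ) (x : (B.X j).obj U), (e.hom.f j).app U ((e.inv.f j).app U x) = x := fun j U x =>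
    ConcreteCategory.congr_hom (congrArg (fun ψ : B.X j ⟶ B.X j => ψ.app U)
      ((HomologicalComplex.comp_f _ _ _).symm.trans (congrArg (fun ψ : B ⟶ B => ψ.f j) e.inv_hom_id))) x
  have hc : ∀ {P Q : CochainComplex (Cᵒᵖ ⥤ AddCommGrpCat) ℤ} (φ : P ⟶ Q) (i j : ℤ) (U : Cᵒᵖ) (x : (P.X i).obj U),
      (Q.d i j).app U ((φ.f i).app U x) = (φ.f j).app U ((P.d i j).app U x) := fun {P Q} φ i j U x =>
    ConcreteCategory.congr_hom (congrArg (fun ψ : P.X i ⟶ Q.X j => ψ.app U) (φ.comm i j)) x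
  obtain ⟨R, hR, hR'⟩ := h T ((e.inv.f n).app _ z) (by rw [hc e.inv, hz, map_zero])
  refine ⟨R, hR, fun T' g hg => ?_⟩
  obtain ⟨y, hy⟩ := hR' g hg
  refine ⟨(e.hom.f (n - 1)).app _ y, ?_⟩
  rw [hc e.hom, hy, NatTrans.naturality_apply (e.hom.f n) g.op, hi]

variable {S : Scheme.{u}} {G0 : BigSite.Ab Kf S} (L : InjectiveResolution G0)

/-- the resolution is exact on the fppf site -/
theorem lexact_fppf (k : ℕ) : LExact (QuotSh.J Kf S) (preCx (inclZ L)) ((k + 1 : ℕ) : ℤ) := by
  have h := (exactAt_iff_lexact (L.cocomplex.extend ComplexShape.embeddingUpNat) ((k + 1 : ℕ) : ℤ)).1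
    ((L.cocomplex.extend_exactAt_iff ComplexShape.embeddingUpNat (j := k + 1) rfl).2 (L.cocomplex_exactAt_succ k))
  exact lexact_of_iso _ (((sheafToPresheaf _ _).mapHomologicalComplex (ComplexShape.up ℤ)).mapIso
    (Groth.L17.GrothSS.mapExtendIso (incl S) L.cocomplex ComplexShape.embeddingUpNat)) _ h

/-- restriction of the resolution to a scheme over the base -/
noncomputable def inclResIso {S' : Scheme.{u}} (e : S' ⟶ S) :
    preCx (((BigSite.pullBig Ke e AddCommGrpCat.{u + 1}).mapHomologicalComplex (ComplexShape.up ℤ)).obj (inclZ L)) ≅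
      preCx (inclZ (pullResK L e)) :=
  ((sheafToPresheaf _ _).mapHomologicalComplex (ComplexShape.up ℤ)).mapIso
    (Groth.L17.GrothSS.mapExtendIso (BigSite.pullBig Ke e AddCommGrpCat.{u + 1}) (inclN L)
      ComplexShape.embeddingUpNat)

/-- Fppf injective resolutions of sheaves from the small étale site are exact, in positive degrees, on the big
étale site. -/
theorem exactAt_inclZ_le (q : ℕ) : ∀ (S : Scheme.{u}) (G0 : BigSite.Ab Kf S) (L : InjectiveResolution G0),
    InImg ((incl S).obj G0) → ∀ m : ℤ, 1 ≤ m → m ≤ q → (inclZ L).ExactAt m := by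
  induction q with
  | zero => intro S G0 L hG m h1 h2; omega
  | succ q ih =>
    intro S G0 L hG m h1 h2
    by_cases h : m ≤ q
    · exact ih S G0 L hG m h1 h
    obtain rfl : m = (q : ℤ) + 1 := by push_cast at h2; omega
    refine (exactAt_iff_lexact (inclZ L) _).2 fun T z hz => ?_
    change ((inclZ L).d ((q : ℤ) + 1) ((q : ℤ) + 1 + 1)).hom.app (op T) z = 0 at hz
    obtain ⟨R0, hR0, hR0'⟩ : ∃ R0 ∈ QuotSh.J Kf S T, ∀ ⦃T' : Over S⦄ (a : T' ⟶ T), R0 a →
        ∃ y, ((inclZ L).d (q : ℤ) ((q : ℤ) + 1)).hom.app (op T') y = ((inclZ L).X ((q : ℤ) + 1)).obj.map a.op z := by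
      have hl : ∀ j : ℤ, j = (q : ℤ) + 1 → LExact (QuotSh.J Kf S) (preCx (inclZ L)) j := by
        rintro j rfl
        exact_mod_cast lexact_fppf L q
      obtain ⟨R0, hR0, hR0'⟩ := hl _ rfl T z hz
      refine ⟨R0, hR0, fun T' a ha => ?_⟩
      obtain ⟨y, hy⟩ := hR0' a ha
      have key : ∀ i : ℤ, i = (q : ℤ) → ∀ y : ((inclZ L).X i).obj.obj (op T'),
          ((inclZ L).d i ((q : ℤ) + 1)).hom.app (op T') y = ((inclZ L).X ((q : ℤ) + 1)).obj.map a.op z →
          ∃ y, ((inclZ L).d (q : ℤ) ((q : ℤ) + 1)).hom.app (op T') y = ((inclZ L).X ((q : ℤ) + 1)).obj.map a.op z := by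
        rintro i rfl y hy
        exact ⟨y, hy⟩
      exact key _ (by omega) y hy
    let Sv : Sieve T :=
      { arrows := fun T' a => ∃ y, ((inclZ L).d (q : ℤ) ((q : ℤ) + 1)).hom.app (op T') y =
          ((inclZ L).X ((q : ℤ) + 1)).obj.map a.op z
        downward_closed := by
          rintro T₁ T₂ a ⟨y, hy⟩ c
          refine ⟨((inclZ L).X (q : ℤ)).obj.map c.op y, ?_⟩
          rw [NatTrans.naturality_apply ((inclZ L).d (q : ℤ) ((q : ℤ) + 1)).hom c.op y, hy, op_comp,
            Functor.map_comp, ConcreteCategory.comp_apply] }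
    refine ⟨Sv, ?_, fun T' a ha => ?_⟩
    swap
    · obtain ⟨y, hy⟩ := ha
      have key : ∀ i : ℤ, i = (q : ℤ) → ∃ y : ((inclZ L).X i).obj.obj (op T'),
          ((inclZ L).d i ((q : ℤ) + 1)).hom.app (op T') y = ((inclZ L).X ((q : ℤ) + 1)).obj.map a.op z := by
        rintro i rfl
        exact ⟨y, hy⟩
      exact key _ (by omega)
    refine Groth.L27.Fppf.mem_Jet.2 fun t => ?_
    obtain ⟨P, g, p, hg, ⟨_, _⟩, hp⟩ := Groth.L27.Fppf.mem_J.1 hR0 t
    let gl : P.left ⟶ T.left := g.left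
    haveI : Flat gl := ‹Flat g.left›
    haveI : LocallyOfFinitePresentation gl := ‹LocallyOfFinitePresentation g.left›
    let O : T.left.Opens := ⟨Set.range gl, gl.isOpenMap.isOpen_range⟩
    let e : O.toScheme ⟶ S := O.ι ≫ T.hom
    let f : (gl ⁻¹ᵁ O).toScheme ⟶ O.toScheme := gl ∣_ O
    haveI : Flat f := IsZariskiLocalAtTarget.restrict (P := @Flat) inferInstance O
    haveI : LocallyOfFinitePresentation f :=
      IsZariskiLocalAtTarget.restrict (P := @LocallyOfFinitePresentation) inferInstance O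
    haveI : Surjective f := ⟨fun v => by
      obtain ⟨w, hw⟩ : v.1 ∈ Set.range gl := v.2
      refine ⟨⟨w, show gl w ∈ O by rw [hw]; exact v.2⟩, ?_⟩
      apply Subtype.ext
      rw [morphismRestrict_base]
      exact hw⟩
    let L1 := pullResK L e
    let M := BigSite.pullBig Ke e AddCommGrpCat.{u + 1}
    let ψ := inclResIso L e
    let T0 : Over O.toScheme := Over.mk (𝟙 O.toScheme)
    let jO : (Over.map e).obj T0 ⟶ T := Over.homMk O.ι (Category.id_comp e).symm
    let z1 : ((inclZ L1).X ((q : ℤ) + 1)).obj.obj (op T0) :=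
      (ψ.hom.f ((q : ℤ) + 1)).app (op T0) (((inclZ L).X ((q : ℤ) + 1)).obj.map jO.op z)
    have hnat : ∀ (i j : ℤ) (U : Over O.toScheme) (x : ((inclZ L).X i).obj.obj (op ((Over.map e).obj U))),
        ((inclZ L1).d i j).hom.app (op U) ((ψ.hom.f i).app (op U) x) =
          (ψ.hom.f j).app (op U) (((inclZ L).d i j).hom.app (op ((Over.map e).obj U)) x) := fun i j U x =>
      ConcreteCategory.congr_hom (congrArg (fun θ => θ.app (op U)) (ψ.hom.comm i j)) x
    have hz1 : ((inclZ L1).d ((q : ℤ) + 1) ((q : ℤ) + 1 + 1)).hom.app (op T0) z1 = 0 :=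
      (hnat _ _ T0 _).trans ((congrArg _ ((NatTrans.naturality_apply ((inclZ L).d _ _).hom jO.op z).trans
        ((congrArg _ hz).trans (map_zero _)))).trans (map_zero _))
    have hres : ∃ w, ((inclZ L1).d (q : ℤ) ((q : ℤ) + 1)).hom.app (op (Over.mk f)) w =
        ((inclZ L1).X ((q : ℤ) + 1)).obj.map (Over.homMk f (Category.comp_id f) : Over.mk f ⟶ T0).op z1 := by
      obtain ⟨y, hy⟩ := hR0' g hg
      let b : (Over.map e).obj (Over.mk f) ⟶ P := Over.homMk (gl ⁻¹ᵁ O).ι (by
        show (gl ⁻¹ᵁ O).ι ≫ P.hom = f ≫ O.ι ≫ T.hom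
        rw [morphismRestrict_ι_assoc, Over.w g])
      refine ⟨(ψ.hom.f (q : ℤ)).app (op (Over.mk f)) (((inclZ L).X (q : ℤ)).obj.map b.op y), ?_⟩
      refine (hnat _ _ _ _).trans ?_
      refine (congrArg _ ((NatTrans.naturality_apply ((inclZ L).d (q : ℤ) ((q : ℤ) + 1)).hom b.op y).trans
        (congrArg _ hy))).trans ?_
      refine Eq.trans ?_ (NatTrans.naturality_apply (ψ.hom.f ((q : ℤ) + 1))
        (Over.homMk f (Category.comp_id f) : Over.mk f ⟶ T0).op (((inclZ L).X ((q : ℤ) + 1)).obj.map jO.op z))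
      refine congrArg ((ψ.hom.f ((q : ℤ) + 1)).app (op (Over.mk f))) ?_
      show ((inclZ L).X ((q : ℤ) + 1)).obj.map b.op (((inclZ L).X ((q : ℤ) + 1)).obj.map g.op z) =
        ((inclZ L).X ((q : ℤ) + 1)).obj.map ((Over.map e).map (Over.homMk f (Category.comp_id f) : Over.mk f ⟶ T0)).op
          (((inclZ L).X ((q : ℤ) + 1)).obj.map jO.op z)
      rw [← ConcreteCategory.comp_apply, ← ConcreteCategory.comp_apply, ← Functor.map_comp, ← Functor.map_comp,
        ← op_comp, ← op_comp]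
      refine congrArg (fun θ : (Over.map e).obj (Over.mk f) ⟶ T => ((inclZ L).X ((q : ℤ) + 1)).obj.map θ.op z)
        (Over.OverMorphism.ext ?_)
      exact (morphismRestrict_ι gl O).symm
    obtain ⟨J1, hJ1, hJ1'⟩ := exists_boundary_of_cover L1 (inImg_pullBig e hG) q
      (fun m h1 h2 => ih _ _ L1 (inImg_pullBig e hG) m h1 h2) f (fun s => Groth.Agent.S8574.hloc f s) z1 hz1 hres
    obtain ⟨v, hv⟩ : ∃ v : O.toScheme, O.ι v = t := ⟨⟨t, ⟨p, hp⟩⟩, rfl⟩
    obtain ⟨Y, a, y0, hJa, hae, hy0⟩ := Groth.L27.Fppf.mem_Jet.1 hJ1 v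
    obtain ⟨w, hw⟩ := hJ1' a hJa
    refine ⟨(Over.map e).obj Y, (Over.map e).map a ≫ jO, y0, ?_, ?_, ?_⟩
    · have hinv : ∀ (j : ℤ) (U : Over O.toScheme) (x : ((inclZ L).X j).obj.obj (op ((Over.map e).obj U))),
          (ψ.inv.f j).app (op U) ((ψ.hom.f j).app (op U) x) = x := fun j U x =>
        ConcreteCategory.congr_hom (congrArg (fun θ => θ.app (op U))
          ((HomologicalComplex.comp_f _ _ _).symm.trans (congrArg (fun θ => HomologicalComplex.Hom.f θ j) ψ.hom_inv_id))) x
      refine ⟨(ψ.inv.f (q : ℤ)).app (op Y) w, ?_⟩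
      refine (ConcreteCategory.congr_hom (congrArg (fun θ => θ.app (op Y)) (ψ.inv.comm (q : ℤ) ((q : ℤ) + 1))) w).trans ?_
      refine (congrArg ((ψ.inv.f ((q : ℤ) + 1)).app (op Y)) (hw.trans
        (NatTrans.naturality_apply (ψ.hom.f ((q : ℤ) + 1)) a.op (((inclZ L).X ((q : ℤ) + 1)).obj.map jO.op z)).symm)).trans ?_
      refine (hinv _ _ _).trans ?_
      rw [op_comp, Functor.map_comp, ConcreteCategory.comp_apply]
      rfl
    · haveI : AlgebraicGeometry.Etale a.left := hae
      exact inferInstanceAs (AlgebraicGeometry.Etale (a.left ≫ O.ι))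
    · exact (Scheme.Hom.comp_apply a.left O.ι y0).trans ((congrArg O.ι hy0).trans hv)

/-- Fppf injective resolutions of sheaves from the small étale site are exact, in positive degrees, on the big
étale site. -/
theorem exactAt_inclZ (hG : InImg ((incl S).obj G0)) (m : ℤ) (hm : 1 ≤ m) : (inclZ L).ExactAt m :=
  exactAt_inclZ_le m.toNat S G0 L hG m hm (by omega)

end Groth.L27.FppfCmp
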