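import Groth.Agent.L27.FppfCmp.LocExact
import Groth.Agent.L10.EtDescent.Cech
import Mathlib.Algebra.Homology.HomotopyCategory.MappingCone
import Mathlib.Algebra.Homology.HomotopyCategory.Pretriangulated

/-!
# Exactness of total complexes for extensions, shifts and mapping cones
-/

universe w v u

open CategoryTheory CategoryTheory.Limits AlgebraicGeometry Opposite

set_option autoImplicit false
set_option backward.isDefEq.respectTransparency false

namespace Groth.L27.FppfCmp

open Groth.L10.EtDescent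

section Generic

variable {C : Type u} [Category.{v} C] (D : Datum.{w} C)

/-- total complexes are functorial -/
def totHom {A B : CochainComplex (Cᵒᵖ ⥤ AddCommGrpCat.{w}) ℤ} (φ : A ⟶ B) (m : ℤ) (T : C)
    (x : TotX D A m T) : TotX D B m T := fun p j h => (φ.f j).app _ (x p j h)

theorem totD_totHom {A B : CochainComplex (Cᵒᵖ ⥤ AddCommGrpCat.{w}) ℤ} (φ : A ⟶ B) (m : ℤ) (T : C)
    (x : TotX D A m T) : totD D B m T (totHom D φ m T x) = totHom D φ (m + 1) T (totD D A m T x) := by
  have hd : ∀ (p : ℕ) (j : ℤ) (y : (A.X (j - 1)).obj (op ((D.Q p).obj T))),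
      (B.d (j - 1) j).app _ ((φ.f (j - 1)).app _ y) = (φ.f j).app _ ((A.d (j - 1) j).app _ y) := fun p j y =>
    ConcreteCategory.congr_hom (congrArg (fun ψ : A.X (j - 1) ⟶ B.X j => ψ.app _) (φ.comm (j - 1) j)) y
  funext p j h
  simp only [totHom]
  cases p with
  | zero => rw [totD_zero_apply, totD_zero_apply]; exact hd 0 j _
  | succ p =>
    rw [totD_succ_apply, totD_succ_apply, map_add, map_zsmul, D.δ_natF]
    simp only [totHom]
    rw [hd]

theorem totHom_sub {A B : CochainComplex (Cᵒᵖ ⥤ AddCommGrpCat.{w}) ℤ} (φ : A ⟶ B) (m : ℤ) (T : C)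
    (x y : TotX D A m T) : totHom D φ m T (x - y) = totHom D φ m T x - totHom D φ m T y := by
  funext p j h
  exact map_sub ((φ.f j).app _).hom _ _

theorem totHom_zero {A B : CochainComplex (Cᵒᵖ ⥤ AddCommGrpCat.{w}) ℤ} (φ : A ⟶ B) (m : ℤ) (T : C) :
    totHom D φ m T 0 = 0 := by
  funext p j h
  exact map_zero ((φ.f j).app _).hom

/-- extensions preserve exactness of total complexes -/
theorem exactAtObj_tot_ext {A B E : CochainComplex (Cᵒᵖ ⥤ AddCommGrpCat.{w}) ℤ} (ι : A ⟶ B) (π : B ⟶ E) (T : C)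
    (hinj : ∀ (j : ℤ) (U : C), Function.Injective ((ι.f j).app (op U)))
    (hsurj : ∀ (j : ℤ) (U : C), Function.Surjective ((π.f j).app (op U)))
    (hex : ∀ (j : ℤ) (U : C) (b : (B.X j).obj (op U)), (π.f j).app (op U) b = 0 → ∃ a, (ι.f j).app (op U) a = b)
    (hA : ExactAtObj (totCx D A) T) (hE : ExactAtObj (totCx D E) T) : ExactAtObj (totCx D B) T := by
  refine (exactAtObj_totCx_iff D B T).2 fun n z hz => ?_
  obtain ⟨y, hy⟩ := (exactAtObj_totCx_iff D E T).1 hE n (totHom D π (n + 1) T z) (by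
    rw [totD_totHom, hz, totHom_zero])
  choose lift hlift using fun p j h => hsurj j _ (y p j h)
  let y' : TotX D B n T := lift
  have hy' : totHom D π n T y' = y := funext fun p => funext fun j => funext fun h => hlift p j h
  have hz' : totHom D π (n + 1) T (z - totD D B n T y') = 0 := by
    rw [totHom_sub, ← totD_totHom, hy', hy, sub_self]
  choose a ha using fun p j h => hex j _ ((z - totD D B n T y') p j h) (congrFun (congrFun (congrFun hz' p) j) h)
  let a' : TotX D A (n + 1) T := a
  have ha' : totHom D ι (n + 1) T a' = z - totD D B n T y' :=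
    funext fun p => funext fun j => funext fun h => ha p j h
  have hda : totD D A (n + 1) T a' = 0 := by
    funext p j h
    refine hinj j _ ?_
    have e : totHom D ι (n + 1 + 1) T (totD D A (n + 1) T a') = 0 := by
      rw [← totD_totHom, ha', map_sub, hz, totD_totD, sub_zero]
    exact (congrFun (congrFun (congrFun e p) j) h).trans (map_zero _).symm
  obtain ⟨x, hx⟩ := (exactAtObj_totCx_iff D A T).1 hA n a' hda
  refine ⟨y' + totHom D ι n T x, ?_⟩
  rw [map_add, totD_totHom, hx, ha']
  abel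

theorem sq_sign (p : ℤ) {A : Type*} [AddCommGroup A] (x : A) : (p.negOnePow : ℤ) • (p.negOnePow : ℤ) • x = x := by
  rcases Int.units_eq_one_or p.negOnePow with h | h <;> simp [h]

/-- shifts preserve exactness of total complexes -/
theorem exactAtObj_tot_shift (A A' : CochainComplex (Cᵒᵖ ⥤ AddCommGrpCat.{w}) ℤ) (T : C)
    (e : ∀ j, A'.X j ≅ A.X (j + 1)) (he : ∀ i j, (e i).hom ≫ A.d (i + 1) (j + 1) = -(A'.d i j ≫ (e j).hom))
    (hA : ExactAtObj (totCx D A) T) : ExactAtObj (totCx D A') T := by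
  let ρ : ∀ m : ℤ, TotX D A' m T → TotX D A (m + 1) T := fun m x p j h =>
    ((p : ℤ).negOnePow : ℤ) • (eqToHom (by rw [sub_add_cancel]) : (A.X (j - 1 + 1)).obj (op ((D.Q p).obj T)) ⟶ _)
      ((e (j - 1)).hom.app _ (x p (j - 1) (by omega)))
  have hρ' : ∀ (m : ℤ) (x : TotX D A' m T) (p : ℕ) (i : ℤ) (h : (p : ℤ) + i = m),
      ρ m x p (i + 1) (by omega) = ((p : ℤ).negOnePow : ℤ) • (e i).hom.app _ (x p i h) := by
    intro m x p i h
    have key : ∀ (k : ℤ) (hk : k = i) (h2 : (p : ℤ) + k = m) (eq : (A.X (k + 1)).obj (op ((D.Q p).obj T)) =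
        (A.X (i + 1)).obj (op ((D.Q p).obj T))),
        (eqToHom eq) ((e k).hom.app _ (x p k h2)) = (e i).hom.app _ (x p i h) := by
      rintro k rfl h2 eq
      rfl
    exact congrArg _ (key _ (by omega) _ _)
  have hd : ∀ (m : ℤ) (x : TotX D A' m T), totD D A (m + 1) T (ρ m x) = -ρ (m + 1) (totD D A' m T x) := by
    intro m x
    funext p j h
    obtain ⟨i, rfl⟩ : ∃ i, j = i + 1 := ⟨j - 1, by omega⟩
    show _ = -(ρ (m + 1) (totD D A' m T x) p (i + 1) h)
    rw [hρ' (m + 1) (totD D A' m T x) p i (by omega)]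
    have hcast : ∀ (q : ℕ) (h1 : (q : ℤ) + (i + 1 - 1) = m + 1) (h2 : (q : ℤ) + (i - 1 + 1) = m + 1),
        (A.d (i + 1 - 1) (i + 1)).app _ (ρ m x q (i + 1 - 1) h1) =
          (A.d (i - 1 + 1) (i + 1)).app _ (ρ m x q (i - 1 + 1) h2) := by
      intro q h1 h2
      have key : ∀ (k : ℤ) (hk : k = i - 1 + 1) (h3 : (q : ℤ) + k = m + 1),
          (A.d k (i + 1)).app _ (ρ m x q k h3) = (A.d (i - 1 + 1) (i + 1)).app _ (ρ m x q (i - 1 + 1) h2) := by
        rintro k rfl h3
        rfl
      exact key _ (by omega) h1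
    have hcomm : ∀ (q : ℕ) (y : (A'.X (i - 1)).obj (op ((D.Q q).obj T))),
        (A.d (i - 1 + 1) (i + 1)).app _ ((e (i - 1)).hom.app _ y) =
          -((e i).hom.app _ ((A'.d (i - 1) i).app _ y)) := fun q y =>
      ConcreteCategory.congr_hom (congrArg (fun ψ : A'.X (i - 1) ⟶ A.X (i + 1) => ψ.app _) (he (i - 1) i)) y
    cases p with
    | zero =>
      rw [totD_zero_apply, totD_zero_apply, hcast 0 (by omega) (by omega), hρ' m x 0 (i - 1) (by omega), map_zsmul,
        hcomm]
      simp
    | succ p =>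
      rw [totD_succ_apply, totD_succ_apply, hcast (p + 1) (by omega) (by omega),
        hρ' m x (p + 1) (i - 1) (by omega), hρ' m x p i (by omega), map_zsmul, map_zsmul, map_add, map_zsmul, hcomm,
        smul_add, sq_sign, sq_sign, D.δ_natF]
      have hs : (((p + 1 : ℕ) : ℤ).negOnePow : ℤ) = -((p : ℤ).negOnePow : ℤ) := by
        rw [show ((p + 1 : ℕ) : ℤ) = (p : ℤ) + 1 by push_cast; ring, Int.negOnePow_succ]
        simp
      rw [hs, neg_smul, neg_add_rev, neg_neg]
      exact add_comm _ _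
  refine (exactAtObj_totCx_iff D A' T).2 fun n z hz => ?_
  have hρ0 : ρ (n + 1 + 1) 0 = 0 := by
    funext p j h
    simp [ρ]
  obtain ⟨y, hy⟩ := (exactAtObj_totCx_iff D A T).1 hA (n + 1) (ρ (n + 1) z) (by rw [hd, hz, hρ0, neg_zero])
  let y' : TotX D A' n T := fun p i h =>
    -(((p : ℤ).negOnePow : ℤ) • (e i).inv.app _ (y p (i + 1) (by omega)))
  refine ⟨y', ?_⟩
  have hy' : ρ n y' = -y := by
    funext p j h
    obtain ⟨i, rfl⟩ : ∃ i, j = i + 1 := ⟨j - 1, by omega⟩
    show _ = -(y p (i + 1) h)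
    rw [hρ' n y' p i (by omega)]
    simp only [y']
    rw [map_neg, map_zsmul, smul_neg, sq_sign]
    congr 1
    exact ConcreteCategory.congr_hom (congrArg (fun ψ : A.X (i + 1) ⟶ A.X (i + 1) => ψ.app _) (e i).inv_hom_id) _
  have hk := hd n y'
  rw [hy', map_neg, hy, neg_inj] at hk
  funext p i h
  have hinj : Function.Injective ((e i).hom.app (op ((D.Q p).obj T))) := fun a b hab => by
    have e2 := congrArg ((e i).inv.app (op ((D.Q p).obj T))) hab
    rwa [← ConcreteCategory.comp_apply, ← ConcreteCategory.comp_apply, ← NatTrans.comp_app, Iso.hom_inv_id] at e2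
  apply hinj
  have e3 := congrFun (congrFun (congrFun hk p) (i + 1)) (by omega)
  rw [hρ' (n + 1) z p i h, hρ' (n + 1) (totD D A' n T y') p i h] at e3
  have e4 := congrArg (((p : ℤ).negOnePow : ℤ) • ·) e3
  simp only [sq_sign] at e4
  exact e4.symm

end Generic

section MappingCone

variable {S : Scheme.{u}} {K : Precoverage Scheme.{u}} {R L : CochainComplex (BigSite.Ab K S) ℤ} (φ : R ⟶ L)

open CochainComplex

/-- the total complex of a mapping cone is exact if those of the source and of the target are -/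
theorem exactAtObj_tot_cone (D : Datum.{u + 1} (Over S)) (T : Over S) (hR : ExactAtObj (totCx D (preCx R)) T)
    (hL : ExactAtObj (totCx D (preCx L)) T) : ExactAtObj (totCx D (preCx (mappingCone φ))) T := by
  let P := (sheafToPresheaf (QuotSh.J K S) AddCommGrpCat.{u + 1}).mapHomologicalComplex (ComplexShape.up ℤ)
  refine exactAtObj_tot_ext D (P.map (mappingCone.inr φ)) (P.map (mappingCone.triangle φ).mor₃) T
    (fun j U => ?_) (fun j U y => ?_) (fun j U b hb => ?_) hL ?_
  · intro a a' h
    have key : ∀ c : (L.X j).obj.obj (op U), ((mappingCone.snd φ).v j j (add_zero j)).hom.app (op U)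
        (((mappingCone.inr φ).f j).hom.app (op U) c) = c := fun c =>
      ConcreteCategory.congr_hom (congrArg (fun ψ : L.X j ⟶ L.X j => ψ.hom.app (op U))
        (mappingCone.inr_f_snd_v φ j)) c
    rw [← key a, ← key a']
    exact congrArg (((mappingCone.snd φ).v j j (add_zero j)).hom.app (op U)) h
  · refine ⟨((mappingCone.inl φ).v (j + 1) j (by omega)).hom.app (op U) (-y), ?_⟩
    have e : (mappingCone.inl φ).v (j + 1) j (by omega) ≫ (mappingCone.triangle φ).mor₃.f j =
        -(𝟙 (R.X (j + 1))) := mappingCone.inl_v_triangle_mor₃_f φ (j + 1) j (by omega) |>.trans (by simp)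
    refine (ConcreteCategory.congr_hom (congrArg (fun ψ : R.X (j + 1) ⟶ R.X (j + 1) => ψ.hom.app (op U)) e) (-y)).trans ?_
    exact neg_neg y
  · refine ⟨((mappingCone.snd φ).v j j (add_zero j)).hom.app (op U) b, ?_⟩
    have e := ConcreteCategory.congr_hom (congrArg (fun ψ : (mappingCone φ).X j ⟶ (mappingCone φ).X j =>
      ψ.hom.app (op U)) (mappingCone.id_X φ j (j + 1) rfl)) b
    have hm : (mappingCone.triangle φ).mor₃.f j = -((mappingCone.fst φ).1.v j (j + 1) rfl) := by
      simp [mappingCone.triangle, HomComplex.Cochain.rightShift_v _ (1 : ℤ) 0 (zero_add 1) j j (add_zero j) (j + 1) rfl]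
    have hf : ((mappingCone.fst φ).1.v j (j + 1) rfl).hom.app (op U) b = 0 := by
      have h2 : -(((mappingCone.fst φ).1.v j (j + 1) rfl).hom.app (op U) b) = 0 :=
        (ConcreteCategory.congr_hom (congrArg (fun ψ : (mappingCone φ).X j ⟶ R.X (j + 1) => ψ.hom.app (op U)) hm) b).symm.trans hb
      exact neg_eq_zero.1 h2
    refine Eq.trans ?_ e
    show _ = ((mappingCone.inl φ).v (j + 1) j (by omega)).hom.app (op U)
        (((mappingCone.fst φ).1.v j (j + 1) rfl).hom.app (op U) b) +
      ((mappingCone.inr φ).f j).hom.app (op U) (((mappingCone.snd φ).v j j (add_zero j)).hom.app (op U) b)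
    rw [hf, map_zero, zero_add]
    rfl
  · refine exactAtObj_tot_shift D (preCx R) _ T (fun j => Iso.refl _) (fun i j => ?_) hR
    have hd : ((mappingCone.triangle φ).obj₁⟦(1 : ℤ)⟧).d i j = (1 : ℤ).negOnePow • R.d (i + 1) (j + 1) :=
      CochainComplex.shiftFunctor_obj_d' R 1 i j
    refine (Category.id_comp _).trans (Eq.trans ?_ (congrArg Neg.neg (Category.comp_id _)).symm)
    refine Eq.trans ?_ (congrArg (fun ψ => -((sheafToPresheaf _ _).map ψ)) hd).symm
    simp only [Int.negOnePow_one, Units.neg_smul, one_smul, Functor.map_neg, neg_neg]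
    rfl

end MappingCone

end Groth.L27.FppfCmp
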