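import Mathlib.Algebra.Homology.CochainComplexPlus
import Mathlib.Algebra.Homology.ShortComplex.Abelian
import Mathlib.CategoryTheory.Preadditive.Injective.Basic
import Mathlib.Algebra.Category.Grp.Abelian

/-!
# Partial contractions of complexes of injective objects
-/

set_option autoImplicit false
set_option backward.isDefEq.respectTransparency false

universe v u

open CategoryTheory CategoryTheory.Limits

namespace Groth.L27.FppfCmp

variable {A : Type u} [Category.{v} A] [Abelian A] (L : CochainComplex A ℤ) [∀ n, Injective (L.X n)]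

/-- a bounded below complex of injective objects is contractible in the range where it is exact -/
theorem exists_contraction (b : ℤ) [L.IsStrictlyGE b] (q : ℤ) (h : ∀ m : ℤ, m ≤ q → L.ExactAt m) (m : ℤ)
    (hm : m ≤ q) :
    ∃ (s : L.X m ⟶ L.X (m - 1)) (t : L.X (m + 1) ⟶ L.X m), s ≫ L.d (m - 1) m + L.d m (m + 1) ≫ t = 𝟙 _ := by
  have key : ∀ (k : ℕ) (m : ℤ), m < b + k → m ≤ q →
      ∃ (s : L.X m ⟶ L.X (m - 1)) (t : L.X (m + 1) ⟶ L.X m),
        s ≫ L.d (m - 1) m + L.d m (m + 1) ≫ t = 𝟙 _ := by
    intro k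
    induction k with
    | zero =>
      intro m hk _
      exact ⟨0, 0, (L.isZero_of_isStrictlyGE b m (by omega)).eq_of_src _ _⟩
    | succ k ih =>
      intro m hk hm
      obtain ⟨n, rfl⟩ : ∃ n, m = n + 1 := ⟨m - 1, by omega⟩
      obtain ⟨s, t, hst⟩ := ih n (by omega) (by omega)
      let e : L.X (n + 1) ⟶ L.X (n + 1) := 𝟙 _ - t ≫ L.d n (n + 1)
      have he : L.d n (n + 1) ≫ e = 0 := by
        have h1 : (s ≫ L.d (n - 1) n + L.d n (n + 1) ≫ t) ≫ L.d n (n + 1) = L.d n (n + 1) := by
          rw [hst, Category.id_comp]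
        rw [Preadditive.add_comp, Category.assoc, L.d_comp_d, comp_zero, zero_add, Category.assoc] at h1
        simp only [e, Preadditive.comp_sub, Category.comp_id]
        rw [h1, sub_self]
      have hex := (HomologicalComplex.exactAt_iff' L n (n + 1) (n + 1 + 1) (by simp) (by simp)).1 (h _ hm)
      let t' : L.X (n + 1 + 1) ⟶ L.X (n + 1) := hex.descToInjective e he
      have ht' : L.d (n + 1) (n + 1 + 1) ≫ t' = e := hex.comp_descToInjective e he
      have key2 : ∀ j : ℤ, j = n → ∀ i : ℤ, i = n + 1 + 1 →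
          ∃ (s : L.X (n + 1) ⟶ L.X j) (t : L.X i ⟶ L.X (n + 1)),
            s ≫ L.d j (n + 1) + L.d (n + 1) i ≫ t = 𝟙 _ := by
        rintro j rfl i rfl
        exact ⟨t, t', by rw [ht']; simp [e]⟩
      exact key2 _ (by omega) _ rfl
  exact key (m + 1 - b).toNat m (by omega) hm

/-- sections of a bounded below complex of injective objects are exact in the range where it is exact -/
theorem exists_preimage_of_contraction {w : A ⥤ AddCommGrpCat.{v}} [w.Additive] (b : ℤ) [L.IsStrictlyGE b] (q : ℤ)
    (h : ∀ m : ℤ, m ≤ q → L.ExactAt m) (m : ℤ) (hm : m ≤ q) (z : w.obj (L.X m))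
    (hz : w.map (L.d m (m + 1)) z = 0) : ∃ y, w.map (L.d (m - 1) m) y = z := by
  obtain ⟨s, t, hst⟩ := exists_contraction L b q h m hm
  refine ⟨w.map s z, ?_⟩
  have e := ConcreteCategory.congr_hom (congrArg w.map hst) z
  rw [w.map_add, w.map_comp, w.map_comp, w.map_id] at e
  simp only [AddCommGrpCat.hom_add, AddMonoidHom.add_apply, ConcreteCategory.comp_apply, hz, map_zero, add_zero] at e
  exact e

end Groth.L27.FppfCmp
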