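import Groth.Agent.L10.EtDescent.Extract

/-! Descent of boundaries from a total complex, below a degree. -/

universe w v u

open CategoryTheory CategoryTheory.Limits Opposite

set_option autoImplicit false
set_option backward.isDefEq.respectTransparency false

namespace Groth.L27.FppfCmp

open Groth.L10.EtDescent

variable {C : Type u} [Category.{v} C] (E : Datum.{w} C) (Ψ : CochainComplex (Cᵒᵖ ⥤ AddCommGrpCat.{w}) ℤ)

/-- exactness of the total complex, and of its higher columns below a degree, lets descend boundaries in that degree -/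
theorem exists_preimage_extract (T : C) (htot : ExactAtObj (totCx E Ψ) T) (n : ℤ)
    (hcol : ∀ (q : ℕ) (m : ℤ), m < n → ∀ z : (Ψ.X m).obj (op ((E.Q (q + 1)).obj T)),
      (Ψ.d m (m + 1)).app _ z = 0 → ∃ y, (Ψ.d (m - 1) m).app _ y = z)
    (z : (Ψ.X n).obj (op ((E.Q 0).obj T))) (hz : (Ψ.d n (n + 1)).app _ z = 0)
    (h1 : ∃ y, (Ψ.d (n - 1) n).app _ y = E.δ (Ψ.X n) 0 T z) :
    ∃ y, (Ψ.d (n - 1) n).app (op ((E.Q 0).obj T)) y = z := by
  let cell : ℕ → Type w := fun q => (Ψ.X (n - q)).obj (op ((E.Q q).obj T))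
  let good : ∀ q, cell q → Prop := fun q x =>
    ∃ y, (Ψ.d (n - q - 1) (n - q)).app _ y = E.δ (Ψ.X (n - q)) q T x
  have h0 : good 0 (show (Ψ.X (n - (0 : ℕ))).obj (op ((E.Q 0).obj T)) from
      (eqToHom (by simp) : (Ψ.X n).obj (op ((E.Q 0).obj T)) ⟶ _) z) := by
    have key : ∀ i, ∀ e : n = i, ∃ y, (Ψ.d (i - 1) i).app (op ((E.Q 1).obj T)) y =
        E.δ (Ψ.X i) 0 T ((eqToHom (by rw [e]) : (Ψ.X n).obj (op ((E.Q 0).obj T)) ⟶ _) z) := by
      rintro i rfl
      rw [eqToHom_refl]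
      exact h1
    exact key _ (by simp)
  have step : ∀ q (x : cell q), good q x → ∃ y : cell (q + 1),
      (∀ j (hj : (n : ℤ) - q = j), (eqToHom (by rw [hj]) : (Ψ.X (n - q)).obj (op ((E.Q (q + 1)).obj T)) ⟶ (Ψ.X j).obj _)
          (E.δ (Ψ.X (n - q)) q T x) +
        (((q + 1 : ℕ) : ℤ).negOnePow : ℤ) • (Ψ.d (n - (q + 1 : ℕ)) j).app _ y = 0) ∧ good (q + 1) y := by
    intro q x hx
    obtain ⟨y, hy⟩ : ∃ y, E.δ (Ψ.X (n - q)) q T x +
        (((q + 1 : ℕ) : ℤ).negOnePow : ℤ) • (Ψ.d (n - q - 1) (n - q)).app _ y = 0 := by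
      obtain ⟨y, hy⟩ := hx
      refine ⟨-((((q + 1 : ℕ) : ℤ).negOnePow : ℤ) • y), ?_⟩
      rw [map_neg, map_zsmul, hy, smul_neg, smul_smul]
      rcases Int.units_eq_one_or ((q + 1 : ℕ) : ℤ).negOnePow with hs | hs <;> simp [hs]
    let y' : cell (q + 1) := (eqToHom (by rw [show n - (q : ℤ) - 1 = n - (q + 1 : ℕ) by push_cast; ring]) :
      (Ψ.X (n - q - 1)).obj (op ((E.Q (q + 1)).obj T)) ⟶ _) y
    refine ⟨y', ?_, ?_⟩
    · rintro j rfl
      rw [eqToHom_refl]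
      change E.δ (Ψ.X (n - q)) q T x + _ = 0
      have key : ∀ i, ∀ e : n - (q : ℤ) - 1 = i, (Ψ.d i (n - q)).app (op ((E.Q (q + 1)).obj T))
          ((eqToHom (by rw [e]) : (Ψ.X (n - q - 1)).obj (op ((E.Q (q + 1)).obj T)) ⟶ _) y) =
            (Ψ.d (n - q - 1) (n - q)).app _ y := by
        rintro i rfl; rw [eqToHom_refl]; rfl
      simp only [y']
      rw [key _ (by push_cast; ring)]
      exact hy
    · have key : ∀ i, ∀ e : n - (q : ℤ) - 1 = i, ∃ w, (Ψ.d (i - 1) i).app (op ((E.Q (q + 1 + 1)).obj T)) w =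
          E.δ (Ψ.X i) (q + 1) T ((eqToHom (by rw [e]) : (Ψ.X (n - q - 1)).obj (op ((E.Q (q + 1)).obj T)) ⟶ _) y) := by
        rintro i rfl
        rw [eqToHom_refl]
        refine hcol (q + 1) (n - q - 1) (by omega) _ ?_
        rw [E.δ_natF (Ψ.d (n - q - 1) (n - q - 1 + 1)) (q + 1) T]
        have key2 : ∀ k, k = n - (q : ℤ) → E.δ (Ψ.X k) (q + 1) T ((Ψ.d (n - q - 1) k).app _ y) = 0 := by
          rintro k rfl
          have e := congrArg (E.δ (Ψ.X (n - q)) (q + 1) T) hy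
          rw [map_add, E.δ_δ, zero_add, map_zsmul, map_zero] at e
          rcases Int.units_eq_one_or ((q + 1 : ℕ) : ℤ).negOnePow with hs | hs
          · simpa [hs] using e
          · simpa [hs] using e
        exact key2 _ (by omega)
      exact key _ (by push_cast; ring)
  choose nxt hnxt hgood using step
  let seq : ∀ q, { x : cell q // good q x } := fun q =>
    Nat.rec ⟨_, h0⟩ (fun q x => ⟨nxt q x.1 x.2, hgood q x.1 x.2⟩) q
  let u : TotX E Ψ n T := fun q j h =>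
    (eqToHom (by rw [show n - (q : ℤ) = j by omega]) : (Ψ.X (n - q)).obj (op ((E.Q q).obj T)) ⟶ _) (seq q).1
  have hu : totD E Ψ n T u = 0 := by
    funext q j h
    have castd : ∀ (q : ℕ) (j : ℤ) (x : cell q) (i : ℤ) (e : n - (q : ℤ) = i),
        (Ψ.d i j).app (op ((E.Q q).obj T)) ((eqToHom (by rw [e]) : (Ψ.X (n - q)).obj (op ((E.Q q).obj T)) ⟶ _) x) =
          (Ψ.d (n - q) j).app _ x := by
      rintro q j x i rfl; rw [eqToHom_refl]; rfl
    cases q with
    | zero =>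
      rw [totD_zero_apply]
      simp only [u]
      rw [castd 0 j _ (j - 1) (by omega)]
      have hj : j = n + 1 := by omega
      subst hj
      exact (castd' n z).trans hz
    | succ q =>
      rw [totD_succ_apply]
      simp only [u]
      rw [castd (q + 1) j _ (j - 1) (by push_cast at h ⊢; omega)]
      have e := hnxt q (seq q).1 (seq q).2 j (by push_cast at h ⊢; omega)
      refine Eq.trans ?_ e
      congr 1
      have castδ : ∀ (i : ℤ) (e : n - (q : ℤ) = i),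
          E.δ (Ψ.X i) q T ((eqToHom (by rw [e]) : (Ψ.X (n - q)).obj (op ((E.Q q).obj T)) ⟶ _) (seq q).1) =
            (eqToHom (by rw [e]) : (Ψ.X (n - q)).obj (op ((E.Q (q + 1)).obj T)) ⟶ (Ψ.X i).obj _)
              (E.δ (Ψ.X (n - q)) q T (seq q).1) := by
        rintro i rfl; rw [eqToHom_refl, eqToHom_refl]; rfl
      exact castδ j (by push_cast at h ⊢; omega)
  obtain ⟨n₀, rfl⟩ : ∃ n₀, n = n₀ + 1 := ⟨n - 1, by omega⟩
  obtain ⟨w, hw⟩ := (exactAtObj_totCx_iff E Ψ T).1 htot n₀ u hu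
  have e := congrFun (congrFun (congrFun hw 0) (n₀ + 1)) (by omega)
  rw [totD_zero_apply] at e
  refine ⟨w 0 (n₀ + 1 - 1) (by omega), e.trans ?_⟩
  exact castu (n₀ + 1) z _ (by simp)
  where
  castd' (n : ℤ) (z : (Ψ.X n).obj (op ((E.Q 0).obj T))) :
      (Ψ.d (n - (0 : ℕ)) (n + 1)).app (op ((E.Q 0).obj T))
        ((eqToHom (by simp) : (Ψ.X n).obj (op ((E.Q 0).obj T)) ⟶ (Ψ.X (n - (0 : ℕ))).obj _) z) =
        (Ψ.d n (n + 1)).app _ z := by
    have key : ∀ i, ∀ e : n = i, (Ψ.d i (n + 1)).app (op ((E.Q 0).obj T))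
        ((eqToHom (by rw [e]) : (Ψ.X n).obj (op ((E.Q 0).obj T)) ⟶ _) z) = (Ψ.d n (n + 1)).app _ z := by
      rintro i rfl; rw [eqToHom_refl]; rfl
    exact key _ (by simp)
  castu (n : ℤ) (z : (Ψ.X n).obj (op ((E.Q 0).obj T))) (i : ℤ) (e : n = i) {h} :
      (eqToHom h : (Ψ.X i).obj (op ((E.Q 0).obj T)) ⟶ (Ψ.X n).obj _)
        ((eqToHom (by rw [e]) : (Ψ.X n).obj (op ((E.Q 0).obj T)) ⟶ _) z) = z := by
    subst e; rw [eqToHom_refl]; rfl

end Groth.L27.FppfCmp
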