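import Groth.Agent.L27.FppfCmp.Descent
import Groth.Agent.L27.FppfCmp.Cone
import Groth.Agent.L27.FppfCmp.Extract
import Groth.Agent.L27.FppfCmp.Contract

/-!
# An fppf class killed by a covering is étale locally zero, given the lower degrees
-/

universe u

open CategoryTheory CategoryTheory.Limits AlgebraicGeometry Opposite

set_option autoImplicit false
set_option backward.defeqAttrib.useBackward true
set_option backward.isDefEq.respectTransparency false
set_option backward.isDefEq.respectTransparency.types false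
set_option linter.style.haveILetI false
set_option maxHeartbeats 800000

namespace Groth.L27.FppfCmp

open Groth.L10.EtDescent (datum qo qfst qF drop cob_apply cons qπ qπ_f qZeroIso ExactAtObj totCx LExact InImg
  exists_preimage_sec exactAtObj_descent exactAtObj_totCx_of_iso)

local notation "Ke" => Scheme.etalePrecoverage
local notation "Kf" => Scheme.fppfPrecoverage

section General

variable {A : Type*} [Category A] [Abelian A]

instance injective_extend (N : CochainComplex A ℕ) [∀ n, Injective (N.X n)] (i : ℤ) :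
    Injective ((N.extend ComplexShape.embeddingUpNat).X i) := by
  by_cases hi : ∃ k, ComplexShape.embeddingUpNat.f k = i
  · obtain ⟨k, hk⟩ := hi
    exact Injective.of_iso (N.extendXIso ComplexShape.embeddingUpNat hk).symm inferInstance
  · exact (N.isZero_extend_X _ i fun k hk => hi ⟨k, hk⟩).injective

/-- the augmentation of an extended complex -/
noncomputable def augX {Z : A} (N : CochainComplex A ℕ) (ε : Z ⟶ N.X 0) :
    Z ⟶ (N.extend ComplexShape.embeddingUpNat).X 0 :=
  ε ≫ (N.extendXIso ComplexShape.embeddingUpNat (i := 0) rfl).inv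

theorem exact_augX {Z : A} (N : CochainComplex A ℕ) (ε : Z ⟶ N.X 0) [Mono ε] (hε : ε ≫ N.d 0 1 = 0)
    (h : (ShortComplex.mk ε (N.d 0 1) hε).Exact) :
    ∃ (w : augX N ε ≫ (N.extend ComplexShape.embeddingUpNat).d 0 1 = 0),
      Mono (augX N ε) ∧ (ShortComplex.mk _ _ w).Exact := by
  have hd : (N.extend ComplexShape.embeddingUpNat).d 0 1 =
      (N.extendXIso ComplexShape.embeddingUpNat (i := 0) rfl).hom ≫ N.d 0 1 ≫
        (N.extendXIso ComplexShape.embeddingUpNat (i := 1) rfl).inv := N.extend_d_eq _ rfl rfl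
  have w : augX N ε ≫ (N.extend ComplexShape.embeddingUpNat).d 0 1 = 0 := by
    rw [hd, augX, Category.assoc, Iso.inv_hom_id_assoc, reassoc_of% hε, zero_comp]
  refine ⟨w, by unfold augX; infer_instance, (ShortComplex.exact_iff_of_iso ?_).1 h⟩
  exact ShortComplex.isoMk (Iso.refl _) (N.extendXIso ComplexShape.embeddingUpNat (i := 0) rfl).symm
    (N.extendXIso ComplexShape.embeddingUpNat (i := 1) rfl).symm (by simp [augX]) (by simp [hd])

end General

variable {S : Scheme.{u}} {G0 : BigSite.Ab Kf S} (L : InjectiveResolution G0)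

/-- an fppf injective resolution on the big étale site -/
noncomputable abbrev inclN : CochainComplex (BigSite.Ab Ke S) ℕ :=
  ((incl S).mapHomologicalComplex (ComplexShape.up ℕ)).obj L.cocomplex

/-- the same, indexed by the integers -/
noncomputable abbrev inclZ : CochainComplex (BigSite.Ab Ke S) ℤ :=
  (inclN L).extend ComplexShape.embeddingUpNat

instance injective_inclN (n : ℕ) : Injective ((inclN L).X n) :=
  haveI := L.injective n
  injective_incl (L.cocomplex.X n)

/-- the augmentation -/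
noncomputable abbrev inclAug : (incl S).obj G0 ⟶ (inclN L).X 0 := (incl S).map (L.ι.f 0)

theorem inclAug_d : inclAug L ≫ (inclN L).d 0 1 = 0 := by
  show (incl S).map (L.ι.f 0) ≫ (incl S).map (L.cocomplex.d 0 1) = 0
  rw [← Functor.map_comp, L.ι_f_zero_comp_complex_d, Functor.map_zero]

theorem exact_inclAug : ∃ (_ : Mono (inclAug L)), (ShortComplex.mk _ _ (inclAug_d L)).Exact := by
  haveI : PreservesFiniteLimits (incl S) :=
    haveI := (BigSite.epsAdj Ke Kf S).rightAdjoint_preservesLimits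
    inferInstance
  haveI : Mono (inclAug L) := inferInstanceAs (Mono ((incl S).map (L.ι.f 0)))
  refine ⟨inferInstance, ?_⟩
  haveI : Mono (ShortComplex.mk (L.ι.f 0) (L.cocomplex.d 0 1) L.ι_f_zero_comp_complex_d).f :=
    inferInstanceAs (Mono (L.ι.f 0))
  exact L.exact₀.map_of_mono_of_preservesKernel (incl S) inferInstance inferInstance

/-- descent along fppf coverings for an fppf resolution -/
theorem exactAtObj_tot_inclZ {X : Scheme.{u}} (f : X ⟶ S) [Flat f] [LocallyOfFinitePresentation f] [Surjective f]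
    (T : Over S) : ExactAtObj (totCx (datum f) (preCx (inclZ L))) T := by
  have h := exactAtObj_tot_fppf (L.cocomplex.extend ComplexShape.embeddingUpNat) f T
  let e : preCx (L.cocomplex.extend ComplexShape.embeddingUpNat) ≅ preCx (inclZ L) :=
    ((sheafToPresheaf _ _).mapHomologicalComplex (ComplexShape.up ℤ)).mapIso
      (Groth.L17.GrothSS.mapExtendIso (incl S) L.cocomplex ComplexShape.embeddingUpNat)
  exact exactAtObj_totCx_of_iso (datum f) e T h

/-- The inductive step, for a covering along which resolutions on the big étale site descend. -/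
theorem exists_boundary_of_descent (q : ℕ)
    (hq : ∀ m : ℤ, 1 ≤ m → m ≤ q → (inclZ L).ExactAt m)
    {X : Scheme.{u}} (f : X ⟶ S) [Flat f] [LocallyOfFinitePresentation f] [Surjective f]
    (hdesc : ∀ R : InjectiveResolution ((incl S).obj G0),
      ExactAtObj (totCx (datum f) (preCx R.cochainComplex)) (Over.mk (𝟙 S)))
    (z : ((inclZ L).X ((q : ℤ) + 1)).obj.obj (op (Over.mk (𝟙 S))))
    (hz : ((inclZ L).d ((q : ℤ) + 1) ((q : ℤ) + 1 + 1)).hom.app _ z = 0)
    (hres : ∃ w, ((inclZ L).d (q : ℤ) ((q : ℤ) + 1)).hom.app (op (Over.mk f)) w =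
      ((inclZ L).X ((q : ℤ) + 1)).obj.map (Over.homMk f (by simp) : Over.mk f ⟶ Over.mk (𝟙 S)).op z) :
    ∃ J ∈ QuotSh.J Ke S (Over.mk (𝟙 S)), ∀ ⦃T' : Over S⦄ (a : T' ⟶ Over.mk (𝟙 S)), J a →
      ∃ y, ((inclZ L).d (q : ℤ) ((q : ℤ) + 1)).hom.app (op T') y =
        ((inclZ L).X ((q : ℤ) + 1)).obj.map a.op z := by
  let G := (incl S).obj G0
  let R := injectiveResolution G
  let φN := cmpMap R (inclN L) (inclAug L) (inclAug_d L)
  let Rz : CochainComplex (BigSite.Ab Ke S) ℤ := R.cocomplex.extend ComplexShape.embeddingUpNat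
  let Lz := inclZ L
  let φ : Rz ⟶ Lz := HomologicalComplex.extendMap φN ComplexShape.embeddingUpNat
  haveI : Mono (R.ι.f 0) := inferInstance
  let ιR : G ⟶ R.cocomplex.X 0 := R.ι.f 0
  haveI : Mono ιR := inferInstanceAs (Mono (R.ι.f 0))
  obtain ⟨wR, hRm, hRex⟩ := exact_augX (Z := G) R.cocomplex ιR R.ι_f_zero_comp_complex_d R.exact₀
  obtain ⟨_, hLex0⟩ := exact_inclAug L
  obtain ⟨wL, hLm, hLex⟩ := exact_augX (inclN L) (inclAug L) (inclAug_d L) hLex0
  let εR := augX (Z := G) R.cocomplex ιR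
  let εL := augX (inclN L) (inclAug L)
  have hcompat : εR ≫ φ.f 0 = εL := by
    show augX (Z := G) R.cocomplex ιR ≫ (HomologicalComplex.extendMap φN ComplexShape.embeddingUpNat).f 0 =
      augX (Z := G) (inclN L) (inclAug L)
    have h0 : ιR ≫ φN.f 0 = inclAug L := ι_cmpMap R (inclN L) (inclAug L) (inclAug_d L)
    have hf := HomologicalComplex.extendMap_f φN ComplexShape.embeddingUpNat (i := 0) (i' := (0 : ℤ)) rfl
    rw [hf, augX, Category.assoc, Iso.inv_hom_id_assoc, ← Category.assoc, h0]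
    rfl
  have hR : ∀ m : ℤ, 1 ≤ m → LExact (QuotSh.J Ke S) (preCx Rz) m := fun m hm => by
    refine (exactAt_iff_lexact Rz m).1 ?_
    obtain ⟨k, rfl⟩ : ∃ k : ℕ, m = ((k + 1 : ℕ) : ℤ) := ⟨(m - 1).toNat, by omega⟩
    exact (R.cocomplex.extend_exactAt_iff ComplexShape.embeddingUpNat (j := k + 1) rfl).2 (R.cocomplex_exactAt_succ k)
  let C := CochainComplex.mappingCone φ
  have hC0 : ∀ (m : ℤ), m < -1 → IsZero (C.X m) := fun m hm => by
    refine (IsZero.iff_id_eq_zero _).2 ((CochainComplex.mappingCone.id_X φ m (m + 1) rfl).symm.trans ?_)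
    refine (congrArg₂ (· + ·) ?_ ?_).trans (add_zero 0)
    · exact (congrArg (· ≫ _) ((Rz.isZero_of_isStrictlyGE 0 (m + 1) (by omega)).eq_of_tgt _ 0)).trans zero_comp
    · exact (congrArg (· ≫ _) ((Lz.isZero_of_isStrictlyGE 0 m (by omega)).eq_of_tgt _ 0)).trans zero_comp
  haveI : C.IsStrictlyGE (-1) := (CochainComplex.isStrictlyGE_iff C (-1)).2 fun m hm => hC0 m hm
  haveI : ∀ m, Injective (C.X m) := fun m => by
    haveI : HasBinaryBiproduct (Rz.X (m + 1)) (Lz.X m) := inferInstance
    exact Injective.of_iso (HomologicalComplex.homotopyCofiber.XIsoBiprod φ m (m + 1) rfl).symm inferInstance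
  let fs : ∀ (i j : ℤ) (h : i + 1 = j) (T : Over S), (C.X i).obj.obj (op T) → (Rz.X j).obj.obj (op T) :=
    fun i j h T => ((CochainComplex.mappingCone.fst φ).1.v i j h).hom.app (op T)
  let sn : ∀ (i : ℤ) (T : Over S), (C.X i).obj.obj (op T) → (Lz.X i).obj.obj (op T) :=
    fun i T => ((CochainComplex.mappingCone.snd φ).v i i (add_zero i)).hom.app (op T)
  let il : ∀ (i j : ℤ) (h : i + 1 = j) (T : Over S), (Rz.X j).obj.obj (op T) → (C.X i).obj.obj (op T) :=
    fun i j h T => ((CochainComplex.mappingCone.inl φ).v j i (by omega)).hom.app (op T)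
  let ir : ∀ (i : ℤ) (T : Over S), (Lz.X i).obj.obj (op T) → (C.X i).obj.obj (op T) :=
    fun i T => ((CochainComplex.mappingCone.inr φ).f i).hom.app (op T)
  have appl : ∀ {P Q : BigSite.Ab Ke S} {a b : P ⟶ Q} (_ : a = b) (T : Over S) (x : P.obj.obj (op T)),
      a.hom.app (op T) x = b.hom.app (op T) x := by
    rintro P Q a b rfl T x; rfl
  have hdec : ∀ (i j : ℤ) (h : i + 1 = j) (T : Over S) (b : (C.X i).obj.obj (op T)),
      il i j h T (fs i j h T b) + ir i T (sn i T b) = b := fun i j h T b =>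
    appl (CochainComplex.mappingCone.id_X φ i j h) T b
  have hfd : ∀ (i j k : ℤ) (h : i + 1 = j) (h' : j + 1 = k) (T : Over S) (b : (C.X i).obj.obj (op T)),
      fs j k h' T ((C.d i j).hom.app (op T) b) = -((Rz.d j k).hom.app (op T) (fs i j h T b)) :=
    fun i j k h h' T b => appl (CochainComplex.mappingCone.d_fst_v φ i j k h h') T b
  have hsd : ∀ (i j : ℤ) (h : i + 1 = j) (T : Over S) (b : (C.X i).obj.obj (op T)),
      sn j T ((C.d i j).hom.app (op T) b) =
        (φ.f j).hom.app (op T) (fs i j h T b) + (Lz.d i j).hom.app (op T) (sn i T b) :=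
    fun i j h T b => appl (CochainComplex.mappingCone.d_snd_v φ i j h) T b
  have hird : ∀ (i j : ℤ) (T : Over S) (x : (Lz.X i).obj.obj (op T)),
      (C.d i j).hom.app (op T) (ir i T x) = ir j T ((Lz.d i j).hom.app (op T) x) :=
    fun i j T x => appl (CochainComplex.mappingCone.inr_f_d φ i j) T x
  have hfir : ∀ (i j : ℤ) (h : i + 1 = j) (T : Over S) (x : (Lz.X i).obj.obj (op T)), fs i j h T (ir i T x) = 0 :=
    fun i j h T x => appl (CochainComplex.mappingCone.inr_f_fst_v φ i j h) T x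
  have hsir : ∀ (i : ℤ) (T : Over S) (x : (Lz.X i).obj.obj (op T)), sn i T (ir i T x) = x :=
    fun i T x => appl (CochainComplex.mappingCone.inr_f_snd_v φ i) T x
  have hild : ∀ (i j k : ℤ) (h : i + 1 = j) (h' : j + 1 = k) (T : Over S) (r : (Rz.X j).obj.obj (op T)),
      (C.d i j).hom.app (op T) (il i j h T r) =
        ir j T ((φ.f j).hom.app (op T) r) - il j k h' T ((Rz.d j k).hom.app (op T) r) :=
    fun i j k h h' T r => appl (CochainComplex.mappingCone.inl_v_d φ j i k (by omega) (by omega)) T r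
  have hC : ∀ m : ℤ, m ≤ q → C.ExactAt m := by
    intro m hm
    refine (exactAt_iff_lexact C m).2 fun T b hb => ?_
    change (C.d m (m + 1)).hom.app (op T) b = 0 at hb
    by_cases h1 : m < -1
    · exact ⟨⊤, GrothendieckTopology.top_mem _ T, fun T' a _ => ⟨0, @Subsingleton.elim _
        (AddCommGrpCat.subsingleton_of_isZero ((secF T').map_isZero (hC0 m h1))) _ _⟩⟩
    have hr : (Rz.d (m + 1) (m + 1 + 1)).hom.app (op T) (fs m (m + 1) rfl T b) = 0 := by
      have e := (hfd m (m + 1) (m + 1 + 1) rfl rfl T b).symm.trans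
        ((congrArg (fs (m + 1) (m + 1 + 1) rfl T) hb).trans (map_zero _))
      exact neg_eq_zero.1 e
    have hx : (φ.f (m + 1)).hom.app (op T) (fs m (m + 1) rfl T b) + (Lz.d m (m + 1)).hom.app (op T) (sn m T b) = 0 :=
      (hsd m (m + 1) rfl T b).symm.trans ((congrArg (sn (m + 1) T) hb).trans (map_zero _))
    by_cases h2 : m = -1
    · subst h2
      obtain ⟨g, hg⟩ := exists_preimage_sec hRex T (fs (-1) 0 (by omega) T b) hr
      have hs : sn (-1) T b = 0 := @Subsingleton.elim _
        (AddCommGrpCat.subsingleton_of_isZero ((secF T).map_isZero (Lz.isZero_of_isStrictlyGE 0 (-1) (by omega)))) _ _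
      have hxx : εL.hom.app (op T) g = 0 := by
        refine (appl hcompat T g).symm.trans ((congrArg ((φ.f 0).hom.app (op T)) hg).trans ?_)
        have e := hx
        rw [hs, map_zero, add_zero] at e
        exact e
      have hg0 : g = 0 := by
        haveI : Mono εL := hLm
        haveI : Mono ((secF T).map εL) := inferInstance
        exact (AddCommGrpCat.mono_iff_injective _).1 this (hxx.trans (map_zero _).symm)
      have hb0 : b = 0 := by
        rw [← hdec (-1) 0 (by omega) T b, ← hg, hg0, hs]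
        simp [il, ir]
      exact ⟨⊤, GrothendieckTopology.top_mem _ T, fun T' a _ => ⟨0, (map_zero _).trans (by rw [hb0, map_zero])⟩⟩
    obtain ⟨J, hJ, hJ'⟩ := hR (m + 1) (by omega) T (fs m (m + 1) rfl T b) hr
    have step : ∀ ⦃T' : Over S⦄ (a : T' ⟶ T), J a → ∃ (x : (Lz.X m).obj.obj (op T'))
        (c : (C.X (m - 1)).obj.obj (op T')), (Lz.d m (m + 1)).hom.app (op T') x = 0 ∧
          (C.X m).obj.map a.op b = ir m T' x + (C.d (m - 1) m).hom.app (op T') c := by
      intro T' a ha
      obtain ⟨r0, hr0⟩ := hJ' a ha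
      have key : ∀ (j : ℤ), j = m → ∀ r0 : (Rz.X j).obj.obj (op T'),
          (Rz.d j (m + 1)).hom.app (op T') r0 = (Rz.X (m + 1)).obj.map a.op (fs m (m + 1) rfl T b) →
          ∃ (x : (Lz.X m).obj.obj (op T')) (c : (C.X (m - 1)).obj.obj (op T')),
            (Lz.d m (m + 1)).hom.app (op T') x = 0 ∧
              (C.X m).obj.map a.op b = ir m T' x + (C.d (m - 1) m).hom.app (op T') c := by
        rintro j rfl r0 hr0
        let b' := (C.X j).obj.map a.op b
        have hb' : (C.d j (j + 1)).hom.app (op T') b' = 0 :=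
          (NatTrans.naturality_apply (C.d j (j + 1)).hom a.op b).trans ((congrArg _ hb).trans (map_zero _))
        have hfb : fs j (j + 1) rfl T' b' = (Rz.d j (j + 1)).hom.app (op T') r0 :=
          (NatTrans.naturality_apply ((CochainComplex.mappingCone.fst φ).1.v j (j + 1) rfl).hom a.op b).trans hr0.symm
        let b'' := b' + (C.d (j - 1) j).hom.app (op T') (il (j - 1) j (by omega) T' r0)
        have hf0 : fs j (j + 1) rfl T' b'' = 0 := by
          refine (map_add _ _ _).trans ?_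
          refine (congrArg₂ (· + ·) hfb (hfd (j - 1) j (j + 1) (by omega) rfl T' _)).trans ?_
          rw [show fs (j - 1) j (by omega) T' (il (j - 1) j (by omega) T' r0) = r0 from
            appl (CochainComplex.mappingCone.inl_v_fst_v φ j (j - 1) (by omega)) T' r0, add_neg_cancel]
        have hdec' : ir j T' (sn j T' b'') = b'' := by
          have e := hdec j (j + 1) rfl T' b''
          rw [hf0] at e
          simpa [il] using e
        have hdb : (C.d j (j + 1)).hom.app (op T') b'' = 0 := by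
          refine (map_add _ _ _).trans ?_
          rw [hb', zero_add]
          exact appl (C.d_comp_d (j - 1) j (j + 1)) T' _
        refine ⟨sn j T' b'', -(il (j - 1) j (by omega) T' r0), ?_, ?_⟩
        · have e := (hsir (j + 1) T' _).symm.trans (congrArg (sn (j + 1) T')
            ((hird j (j + 1) T' (sn j T' b'')).symm.trans ((congrArg _ hdec').trans hdb)))
          exact e.trans (map_zero _)
        · rw [hdec', map_neg]
          exact (add_neg_cancel_right b' _).symm
      exact key (m + 1 - 1) (by omega) r0 hr0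
    refine ⟨Sieve.mk (fun T'' a => ∃ y, (C.d (m - 1) m).hom.app (op T'') y = (C.X m).obj.map a.op b) ?_, ?_,
      fun T'' a ha => ha⟩
    · rintro T₁ T₂ a ⟨y, hy⟩ c
      refine ⟨(C.X (m - 1)).obj.map c.op y, ?_⟩
      rw [NatTrans.naturality_apply (C.d (m - 1) m).hom c.op y, hy, op_comp, Functor.map_comp,
        ConcreteCategory.comp_apply]
    refine (QuotSh.J Ke S).transitive hJ _ fun T' a ha => ?_
    obtain ⟨x, c, hx0, hxb⟩ := step a ha
    obtain ⟨J', hJ'2, hJ''⟩ : ∃ J' ∈ QuotSh.J Ke S T', ∀ ⦃T'' : Over S⦄ (a' : T'' ⟶ T'), J' a' →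
        ∃ y, (C.d (m - 1) m).hom.app (op T'') y = ir m T'' ((Lz.X m).obj.map a'.op x) := by
      by_cases h3 : m = 0
      · subst h3
        obtain ⟨g, hg⟩ := exists_preimage_sec hLex T' x hx0
        refine ⟨⊤, GrothendieckTopology.top_mem _ _, fun T'' a' _ =>
          ⟨il (0 - 1) 0 (by omega) T'' (εR.hom.app (op T'') (((incl S).obj G0).obj.map a'.op g)), ?_⟩⟩
        rw [hild (0 - 1) 0 1 (by omega) (by omega), show (Rz.d 0 1).hom.app (op T'') (εR.hom.app (op T'') _) = 0 from
          appl wR T'' _]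
        refine (sub_eq_self.2 (map_zero _)).trans (congrArg (ir 0 T'') ?_)
        refine (appl hcompat T'' _).trans ?_
        exact (NatTrans.naturality_apply εL.hom a'.op g).trans (congrArg _ hg)
      · obtain ⟨J', hJ'2, hJ''⟩ := (exactAt_iff_lexact Lz m).1 (hq m (by omega) hm) T' x hx0
        refine ⟨J', hJ'2, fun T'' a' ha' => ?_⟩
        obtain ⟨y, hy⟩ := hJ'' a' ha'
        exact ⟨ir (m - 1) T'' y, (hird _ _ T'' y).trans (congrArg (ir m T'') hy)⟩
    refine (QuotSh.J Ke S).superset_covering (fun T'' a' ha' => ?_) hJ'2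
    obtain ⟨y, hy⟩ := hJ'' a' ha'
    refine ⟨y + (C.X (m - 1)).obj.map a'.op c, ?_⟩
    rw [map_add, hy, NatTrans.naturality_apply (C.d (m - 1) m).hom a'.op c, op_comp, Functor.map_comp,
      ConcreteCategory.comp_apply, hxb, map_add]
    exact congrArg (· + _) (NatTrans.naturality_apply ((CochainComplex.mappingCone.inr φ).f m).hom a'.op x)
  have hsec : ∀ (U : Over S) (m : ℤ), m ≤ q → ∀ b : (C.X m).obj.obj (op U),
      (C.d m (m + 1)).hom.app (op U) b = 0 → ∃ y, (C.d (m - 1) m).hom.app (op U) y = b := fun U m hm b hb =>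
    exists_preimage_of_contraction (w := secF U) C (-1) q hC m hm b hb
  let T0 : Over S := Over.mk (𝟙 S)
  have hRtot : ExactAtObj (totCx (datum f) (preCx Rz)) T0 := hdesc R
  have hCtot := exactAtObj_tot_cone φ (datum f) T0 hRtot (exactAtObj_tot_inclZ L f T0)
  let e0 := qZeroIso f T0
  let z0 : (Lz.X ((q : ℤ) + 1)).obj.obj (op (qo f 0 T0)) := (Lz.X ((q : ℤ) + 1)).obj.map e0.hom.op z
  have hz0 : (Lz.d ((q : ℤ) + 1) ((q : ℤ) + 1 + 1)).hom.app _ z0 = 0 :=
    (NatTrans.naturality_apply (Lz.d _ _).hom e0.hom.op z).trans ((congrArg _ hz).trans (map_zero _))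
  obtain ⟨b, hb⟩ := exists_preimage_extract (datum f) (preCx C) T0 hCtot ((q : ℤ) + 1)
    (fun p m hm => hsec _ m (by omega)) (ir ((q : ℤ) + 1) _ z0)
    ((hird _ _ _ z0).trans ((congrArg _ hz0).trans (map_zero _))) (by
      obtain ⟨w, hw⟩ := hres
      have hπ : qπ f 1 T0 0 ≫ f = (qo f 1 T0).hom := by
        rw [qπ_f]; rfl
      let a : qo f 1 T0 ⟶ Over.mk f := Over.homMk (qπ f 1 T0 0) hπ
      have key : ∀ j : ℤ, j = (q : ℤ) → ∃ y, (C.d j ((q : ℤ) + 1)).hom.app _ y =
          (datum f).δ (C.X ((q : ℤ) + 1)).obj 0 T0 (ir ((q : ℤ) + 1) _ z0) := by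
        rintro j rfl
        refine ⟨ir (q : ℤ) _ ((Lz.X (q : ℤ)).obj.map a.op w), (hird _ _ _ _).trans ?_⟩
        refine Eq.trans ?_ ((datum f).δ_natF ((CochainComplex.mappingCone.inr φ).f ((q : ℤ) + 1)).hom 0 T0 z0)
        refine congrArg (ir ((q : ℤ) + 1) _) ?_
        refine (NatTrans.naturality_apply (Lz.d _ _).hom a.op w).trans ?_
        rw [hw]
        show _ = Groth.L10.EtDescent.cob f (Lz.X ((q : ℤ) + 1)).obj 0 T0 z0
        rw [cob_apply, Fin.sum_univ_one]
        simp only [z0, Fin.val_zero, pow_zero, one_smul, ← ConcreteCategory.comp_apply,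
          ← Functor.map_comp, ← op_comp]
        refine ((ConcreteCategory.comp_apply _ _ _).symm.trans ?_)
        erw [← Functor.map_comp, ← op_comp]
        exact congrArg (fun m : qo f 1 T0 ⟶ T0 => (Lz.X ((q : ℤ) + 1)).obj.map m.op z) (Over.mkIdTerminal.hom_ext _ _)
      exact key _ (by omega))
  have fin : ∀ j : ℤ, j = (q : ℤ) → ∀ b : (C.X j).obj.obj (op (qo f 0 T0)),
      (C.d j ((q : ℤ) + 1)).hom.app _ b = ir ((q : ℤ) + 1) _ z0 →
      ∃ J ∈ QuotSh.J Ke S T0, ∀ ⦃T' : Over S⦄ (a : T' ⟶ T0), J a →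
        ∃ y, (Lz.d (q : ℤ) ((q : ℤ) + 1)).hom.app (op T') y = (Lz.X ((q : ℤ) + 1)).obj.map a.op z := by
    rintro j rfl b hb
    let bT := (C.X (q : ℤ)).obj.map e0.inv.op b
    have hbT : (C.d (q : ℤ) ((q : ℤ) + 1)).hom.app (op T0) bT = ir ((q : ℤ) + 1) T0 z := by
      refine (NatTrans.naturality_apply (C.d _ _).hom e0.inv.op b).trans ?_
      rw [hb]
      refine (NatTrans.naturality_apply ((CochainComplex.mappingCone.inr φ).f _).hom e0.inv.op z0).symm.trans ?_
      refine congrArg (ir ((q : ℤ) + 1) T0) ?_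
      simp only [z0, ← ConcreteCategory.comp_apply, ← Functor.map_comp, ← op_comp, Iso.inv_hom_id, op_id,
        CategoryTheory.Functor.map_id]
      rfl
    let r := fs (q : ℤ) ((q : ℤ) + 1) rfl T0 bT
    have hr : (Rz.d ((q : ℤ) + 1) ((q : ℤ) + 1 + 1)).hom.app (op T0) r = 0 := by
      have e := hfd (q : ℤ) ((q : ℤ) + 1) ((q : ℤ) + 1 + 1) rfl rfl T0 bT
      rw [hbT, hfir] at e
      exact neg_eq_zero.1 e.symm
    have hzr : (φ.f ((q : ℤ) + 1)).hom.app (op T0) r + (Lz.d (q : ℤ) ((q : ℤ) + 1)).hom.app (op T0) (sn _ T0 bT) = z := by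
      refine (hsd (q : ℤ) ((q : ℤ) + 1) rfl T0 bT).symm.trans ?_
      rw [hbT]
      exact hsir _ T0 z
    obtain ⟨J, hJ, hJ'⟩ := hR ((q : ℤ) + 1) (by omega) T0 r hr
    refine ⟨J, hJ, fun T' a ha => ?_⟩
    obtain ⟨r0, hr0⟩ := hJ' a ha
    have key : ∀ j : ℤ, j = (q : ℤ) → ∀ r0 : (Rz.X j).obj.obj (op T'),
        (Rz.d j ((q : ℤ) + 1)).hom.app (op T') r0 = (Rz.X ((q : ℤ) + 1)).obj.map a.op r →
        ∃ y, (Lz.d (q : ℤ) ((q : ℤ) + 1)).hom.app (op T') y = (Lz.X ((q : ℤ) + 1)).obj.map a.op z := by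
      rintro j rfl r0 hr0
      refine ⟨(φ.f (q : ℤ)).hom.app (op T') r0 + (Lz.X (q : ℤ)).obj.map a.op (sn _ T0 bT), ?_⟩
      rw [map_add, ← hzr, map_add, NatTrans.naturality_apply (Lz.d (q : ℤ) ((q : ℤ) + 1)).hom a.op]
      refine congrArg (· + _) ?_
      refine (appl (φ.comm (q : ℤ) ((q : ℤ) + 1)) T' r0).trans ?_
      exact (congrArg ((φ.f _).hom.app (op T')) hr0).trans (NatTrans.naturality_apply (φ.f _).hom a.op r)
    exact key _ (by omega) r0 hr0
  exact fin _ (by omega) b hb

/-- The inductive step: a class of degree `q + 1` killed by an fppf covering of the base is étale locally zero. -/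
theorem exists_boundary_of_cover (hG : InImg ((incl S).obj G0)) (q : ℕ)
    (hq : ∀ m : ℤ, 1 ≤ m → m ≤ q → (inclZ L).ExactAt m)
    {X : Scheme.{u}} (f : X ⟶ S) [Flat f] [LocallyOfFinitePresentation f] [Surjective f]
    (hloc : ∀ s : S, ∃ (S' : Scheme.{u}) (e : S' ⟶ S) (_ : Etale e) (_ : s ∈ Set.range e.base)
      (W : Scheme.{u}) (h : W ⟶ S') (_ : IsFinite h) (_ : Surjective h) (k : W ⟶ X), k ≫ f = h ≫ e)
    (z : ((inclZ L).X ((q : ℤ) + 1)).obj.obj (op (Over.mk (𝟙 S))))
    (hz : ((inclZ L).d ((q : ℤ) + 1) ((q : ℤ) + 1 + 1)).hom.app _ z = 0)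
    (hres : ∃ w, ((inclZ L).d (q : ℤ) ((q : ℤ) + 1)).hom.app (op (Over.mk f)) w =
      ((inclZ L).X ((q : ℤ) + 1)).obj.map (Over.homMk f (by simp) : Over.mk f ⟶ Over.mk (𝟙 S)).op z) :
    ∃ J ∈ QuotSh.J Ke S (Over.mk (𝟙 S)), ∀ ⦃T' : Over S⦄ (a : T' ⟶ Over.mk (𝟙 S)), J a →
      ∃ y, ((inclZ L).d (q : ℤ) ((q : ℤ) + 1)).hom.app (op T') y =
        ((inclZ L).X ((q : ℤ) + 1)).obj.map a.op z :=
  exists_boundary_of_descent L q hq f (fun R => exactAtObj_descent R hG f hloc _) z hz hres

end Groth.L27.FppfCmp
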