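import Groth.Agent.L27.FppfCmp.TotSh
import Groth.Agent.L10.EtDescent.Refine
import Groth.Agent.L27.Fppf.Elem

/-!
# Fppf sheaves on the big étale site, and fppf descent for their injective resolutions
-/

universe u

open CategoryTheory CategoryTheory.Limits AlgebraicGeometry Opposite

set_option autoImplicit false
set_option backward.defeqAttrib.useBackward true
set_option backward.isDefEq.respectTransparency false
set_option backward.isDefEq.respectTransparency.types false
set_option linter.style.haveILetI false

namespace Groth.L27.FppfCmp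

open Groth.L10.EtDescent (datum qo qfst qF cons qπ qπ_f qZeroIso ExactAtObj totCx LExact exactAtObj_of_section)

local notation "Ke" => Scheme.etalePrecoverage
local notation "Kf" => Scheme.fppfPrecoverage

variable {S : Scheme.{u}}

/-- an fppf sheaf as a sheaf on the big étale site -/
noncomputable abbrev incl (S : Scheme.{u}) : BigSite.Ab Kf S ⥤ BigSite.Ab Ke S :=
  BigSite.eps Ke Kf S AddCommGrpCat.{u + 1}

instance additive_incl : (incl S).Additive where

theorem preservesFiniteLimits_epsPull : PreservesFiniteLimits (BigSite.epsPull Ke Kf S) := by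
  haveI : RepresentablyFlat (𝟭 (Over S)) := inferInstance
  haveI := Groth.L02.An.lan_preservesFiniteLimits.{u + 1} (𝟭 (Over S))
  exact Functor.sheafPullbackConstruction.preservesFiniteLimits (𝟭 (Over S)) AddCommGrpCat.{u + 1}
    (QuotSh.J Ke S) (QuotSh.J Kf S)

theorem injective_incl (I : BigSite.Ab Kf S) [Injective I] : Injective ((incl S).obj I) := by
  haveI := preservesFiniteLimits_epsPull (S := S)
  exact Injective.injective_of_adjoint (BigSite.epsAdj Ke Kf S) I

/-- inverse image of an injective resolution -/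
noncomputable def pullResK {K : Precoverage Scheme.{u}} {G : BigSite.Ab K S} (R : InjectiveResolution G)
    {S' : Scheme.{u}} (e : S' ⟶ S) :
    InjectiveResolution ((BigSite.pullBig K e AddCommGrpCat.{u + 1}).obj G) where
  cocomplex := ((BigSite.pullBig K e AddCommGrpCat.{u + 1}).mapHomologicalComplex _).obj R.cocomplex
  injective n := Groth.L23.Big.injective_pullBig e K (R.cocomplex.X n)
  ι := ((HomologicalComplex.singleMapHomologicalComplex (BigSite.pullBig K e AddCommGrpCat.{u + 1})
      (ComplexShape.up ℕ) 0).app G).inv ≫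
    ((BigSite.pullBig K e AddCommGrpCat.{u + 1}).mapHomologicalComplex _).map R.ι
  quasiIso := by
    haveI : PreservesFiniteLimits (BigSite.pullBig K e AddCommGrpCat.{u + 1}) :=
      haveI := (BigSite.shriekAbAdj K e).rightAdjoint_preservesLimits
      inferInstance
    haveI : PreservesFiniteColimits (BigSite.pullBig K e AddCommGrpCat.{u + 1}) :=
      haveI := (BigSite.bigAdj K e AddCommGrpCat.{u + 1}).leftAdjoint_preservesColimits
      inferInstance
    haveI : QuasiIso (((BigSite.pullBig K e AddCommGrpCat.{u + 1}).mapHomologicalComplex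
        (ComplexShape.up ℕ)).map R.ι) := by
      rw [quasiIso_iff]
      intro i
      exact inferInstance
    exact inferInstance

/-- an fppf covering by one scheme, pulled back to any object -/
theorem section_sieve_mem {X : Scheme.{u}} (f : X ⟶ S) [Flat f] [LocallyOfFinitePresentation f] [Surjective f]
    (T : Over S) :
    ∃ R ∈ QuotSh.J Kf S T, ∀ ⦃T' : Over S⦄ (a : T' ⟶ T), R a → ∃ s : T'.left ⟶ X, s ≫ f = T'.hom := by
  let R : Sieve T :=
    { arrows := fun T' _ => ∃ s : T'.left ⟶ X, s ≫ f = T'.hom
      downward_closed := by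
        rintro T' T'' a ⟨s, hs⟩ b
        exact ⟨b.left ≫ s, by rw [Category.assoc, hs, Over.w b]⟩ }
  refine ⟨R, Groth.L27.Fppf.mem_J.2 fun t => ?_, fun T' a ha => ha⟩
  obtain ⟨x, hx⟩ := f.surjective (T.hom.base t)
  obtain ⟨y, hy1, -⟩ := Scheme.Pullback.exists_preimage_pullback (f := T.hom) (g := f) t x hx.symm
  exact ⟨Over.mk (pullback.fst T.hom f ≫ T.hom), Over.homMk (pullback.fst T.hom f) rfl, y,
    ⟨pullback.snd T.hom f, pullback.condition.symm⟩,
    ⟨inferInstanceAs (Flat (pullback.fst T.hom f)),
      inferInstanceAs (LocallyOfFinitePresentation (pullback.fst T.hom f))⟩, hy1⟩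

/-- complexes of injective fppf sheaves satisfy descent along fppf coverings -/
theorem exactAtObj_tot_fppf (I : CochainComplex (BigSite.Ab Kf S) ℤ) [I.IsStrictlyGE 0] [∀ n, Injective (I.X n)]
    {X : Scheme.{u}} (f : X ⟶ S) [Flat f] [LocallyOfFinitePresentation f] [Surjective f] (T : Over S) :
    ExactAtObj (totCx (datum f) (preCx I)) T := by
  refine exactAtObj_of_lexact f I (fun n => lexact_of_exactAtObj (fun T => ?_) n) T
  obtain ⟨R, hR, hR'⟩ := section_sieve_mem f T
  refine ⟨R, hR, fun T' a ha => ?_⟩
  obtain ⟨s, hs⟩ := hR' a ha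
  exact exactAtObj_of_section f (T := T') s hs _

section Compare

variable {A : Type*} [Category A] [Abelian A] {Z : A} (R : InjectiveResolution Z)
  (L : CochainComplex A ℕ) [∀ n, Injective (L.X n)] (ε : Z ⟶ L.X 0) (hε : ε ≫ L.d 0 1 = 0)

/-- degree zero of the comparison -/
noncomputable def cmpZero : R.cocomplex.X 0 ⟶ L.X 0 :=
  Injective.factorThru ε (R.ι.f 0)

theorem ι_cmpZero : R.ι.f 0 ≫ cmpZero R L ε = ε := Injective.comp_factorThru _ _

include hε in
theorem d_cmpZero : R.ι.f 0 ≫ cmpZero R L ε ≫ L.d 0 1 = 0 := by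
  rw [← Category.assoc, ι_cmpZero, hε]

/-- degree one of the comparison -/
noncomputable def cmpOne : R.cocomplex.X 1 ⟶ L.X 1 :=
  R.exact₀.descToInjective (cmpZero R L ε ≫ L.d 0 1) (d_cmpZero R L ε hε)

theorem comm_cmpOne : cmpZero R L ε ≫ L.d 0 1 = R.cocomplex.d 0 1 ≫ cmpOne R L ε hε :=
  (R.exact₀.comp_descToInjective _ _).symm

/-- a resolution maps to every complex of injectives under its object -/
noncomputable def cmpMap : R.cocomplex ⟶ L :=
  CochainComplex.mkHom _ _ (cmpZero R L ε) (cmpOne R L ε hε) (comm_cmpOne R L ε hε).symm.symm fun n p =>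
    ⟨(R.exact_succ n).descToInjective (p.2.1 ≫ L.d (n + 1) (n + 2)) (by
        rw [← Category.assoc, ← p.2.2, Category.assoc, L.d_comp_d, comp_zero]),
      ((R.exact_succ n).comp_descToInjective _ _).symm⟩

theorem ι_cmpMap : R.ι.f 0 ≫ (cmpMap R L ε hε).f 0 = ε := ι_cmpZero R L ε

end Compare

end Groth.L27.FppfCmp
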