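import Groth.Agent.L27.FppfCmp.Results

/-!
# Higher direct images to the fppf site from those to the big étale site
-/

universe u

open CategoryTheory CategoryTheory.Limits CategoryTheory.Abelian AlgebraicGeometry Opposite

set_option autoImplicit false
set_option backward.defeqAttrib.useBackward true
set_option backward.isDefEq.respectTransparency false
set_option backward.isDefEq.respectTransparency.types false
set_option linter.style.haveILetI false
set_option maxHeartbeats 800000

noncomputable section

namespace Groth.L27.FppfCmp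

local notation "Ke" => Scheme.etalePrecoverage
local notation "Kf" => Scheme.fppfPrecoverage

/-- inverse images to the fppf sites commute with higher direct images, given the big étale version -/
theorem nonempty_aPull_Rpush_of_piEt {X Y : Scheme.{u}} (f : X ⟶ Y) [EtFppf.ACont X] [EtFppf.ACont Y]
    (F : EtCoh.Ab X) (i : ℕ)
    (h : Nonempty ((BigSite.piEtPull Ke Y).obj ((EtCoh.Rpush f i).obj F) ≅
      (BigSite.RpushBig Ke f i).obj ((BigSite.piEtPull Ke X).obj F))) :
    Nonempty ((EtFppf.aPull Y).obj ((EtCoh.Rpush f i).obj F) ≅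
      (EtFppf.RpushBig f i).obj ((EtFppf.aPull X).obj F)) := by
  obtain ⟨e⟩ := h
  haveI := preservesFiniteLimits_epsPull (S := Y)
  haveI : PreservesFiniteColimits (BigSite.epsPull Ke Kf Y) :=
    haveI := (BigSite.epsAdj Ke Kf Y).leftAdjoint_preservesColimits
    inferInstance
  haveI : (BigSite.epsPull Ke Kf Y).Additive := (BigSite.epsAdj Ke Kf Y).left_adjoint_additive
  haveI : IsIso (BigSite.epsAdj Ke Kf Y).counit := inferInstance
  haveI := isIso_unit_eps F
  let G0 := (EtFppf.aPull X).obj F
  let j : (BigSite.piEtPull Ke X).obj F ≅ (incl X).obj G0 :=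
    asIso ((BigSite.epsAdj Ke Kf X).unit.app ((BigSite.piEtPull Ke X).obj F)) ≪≫
      (incl X).mapIso ((aPullIso X).app F)
  let L := injectiveResolution G0
  let Re := inclRes L (inImg_aPull F)
  let P := ((EtFppf.pushBig f).mapHomologicalComplex (ComplexShape.up ℕ)).obj L.cocomplex
  let q : ((incl Y).mapHomologicalComplex (ComplexShape.up ℕ)).obj P ≅
      ((BigSite.pushBig Ke f AddCommGrpCat.{u + 1}).mapHomologicalComplex _).obj (inclN L) := Iso.refl _
  exact ⟨((aPullIso Y).app _).symm ≪≫ (BigSite.epsPull Ke Kf Y).mapIso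
      (e ≪≫ (BigSite.RpushBig Ke f i).mapIso j ≪≫ Re.isoRightDerivedObj _ i ≪≫
        (HomologicalComplex.homologyFunctor _ _ i).mapIso q.symm) ≪≫
    (((((incl Y).mapHomologicalComplex _).obj P).sc i).mapHomologyIso (BigSite.epsPull Ke Kf Y)).symm ≪≫
      (HomologicalComplex.homologyFunctor _ _ i).mapIso
        ((NatIso.mapHomologicalComplex (asIso (BigSite.epsAdj Ke Kf Y).counit) (ComplexShape.up ℕ)).app P) ≪≫
    (L.isoRightDerivedObj (EtFppf.pushBig f) i).symm⟩

end Groth.L27.FppfCmp

end
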