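import Groth.Agent.L10.EtDescent.Cech
import Groth.Agent.L27.FppfCmp.LocExact
import Groth.Agent.L23.BigSite.Exactness
import Mathlib.Algebra.Homology.HomotopyCategory.KInjective
import Mathlib.CategoryTheory.Sites.Limits

/-! The total complex of a bounded below complex of injective sheaves on a big site, for any topology: local exactness gives exactness. -/

universe u

open CategoryTheory CategoryTheory.Limits AlgebraicGeometry Opposite

set_option autoImplicit false
set_option backward.isDefEq.respectTransparency false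
set_option linter.style.haveILetI false

namespace Groth.L27.FppfCmp

open Groth.L10.EtDescent

variable {K : Precoverage Scheme.{u}}

variable {S X : Scheme.{u}} (f : X ⟶ S)

/-- products with a power as a composite of base change and composition -/
noncomputable def qFIso (p : ℕ) : qF f p ≅ Over.pullback (wb f p) ⋙ Over.map (wb f p) :=
  NatIso.ofComponents (fun T => Over.isoMk (Iso.refl _) ((Category.id_comp _).trans pullback.condition.symm))
    (fun {T T'} a => by
      refine Over.OverMorphism.ext ((Category.comp_id _).trans (Eq.trans ?_ (Category.id_comp _).symm))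
      refine qo_ext f ?_ (fun j => ?_)
      · refine (qmap_fst f p a).trans ?_
        exact (pullback.lift_fst _ _ _).symm
      · refine (qmap_π f p a j).trans ?_
        exact (pullback.lift_snd_assoc _ _ _ _).symm)

/-- the presheaf of a column is a sheaf -/
theorem isSheaf_preQ (p : ℕ) (F : BigSite.Ab K S) :
    Presheaf.IsSheaf (QuotSh.J K S) (preQ (datum f) p F.obj) :=
  (Presheaf.isSheaf_of_iso_iff (Functor.isoWhiskerRight (NatIso.op (qFIso f p)) F.obj)).1
    ((BigSite.pushBig K (wb f p) _).obj ((BigSite.pullBig K (wb f p) _).obj F)).property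

/-- a column as a sheaf -/
noncomputable def colSh (p : ℕ) (F : BigSite.Ab K S) : BigSite.Ab K S := ⟨preQ (datum f) p F.obj, isSheaf_preQ f p F⟩

/-- a column is a direct image of an inverse image -/
noncomputable def colShIso (p : ℕ) (F : BigSite.Ab K S) :
    (BigSite.pushBig K (wb f p) AddCommGrpCat.{u + 1}).obj ((BigSite.pullBig K (wb f p) _).obj F) ≅ colSh f p F :=
  (fullyFaithfulSheafToPresheaf _ _).preimageIso (Functor.isoWhiskerRight (NatIso.op (qFIso f p)) F.obj)

theorem injective_colSh (p : ℕ) (F : BigSite.Ab K S) [Injective F] : Injective (colSh f p F) := by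
  haveI := Groth.L23.Big.injective_pullBig (wb f p) K F
  haveI : Injective ((BigSite.pushBig K (wb f p) AddCommGrpCat.{u + 1}).obj ((BigSite.pullBig K (wb f p) _).obj F)) :=
    Injective.injective_of_adjoint (BigSite.bigAdj K (wb f p) AddCommGrpCat.{u + 1}) _
  exact Injective.of_iso (colShIso f p F) inferInstance

variable (I : CochainComplex (BigSite.Ab K S) ℤ)

/-- the index of a degree -/
abbrev TotIdx (n : ℤ) : Type := { pj : ℕ × ℤ // (pj.1 : ℤ) + pj.2 = n }

/-- the columns in a degree -/
noncomputable abbrev totFun (n : ℤ) : Discrete (TotIdx n) ⥤ BigSite.Ab K S :=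
  Discrete.functor fun s => colSh f s.1.1 (I.X s.1.2)

/-- the projections -/
noncomputable def totCone (n : ℤ) : Cone (totFun f I n ⋙ sheafToPresheaf _ _) where
  pt := totPre (datum f) (preCx I) n
  π := Discrete.natTrans fun s =>
    { app := fun T => AddCommGrpCat.ofHom
        { toFun := fun z => z s.as.1.1 s.as.1.2 s.as.2, map_zero' := rfl, map_add' := fun _ _ => rfl }
      naturality := fun T T' a => by ext z; rfl }

/-- they form a product -/
noncomputable def totConeIsLimit (n : ℤ) : IsLimit (totCone f I n) where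
  lift s :=
    { app := fun T => AddCommGrpCat.ofHom
        { toFun := fun x p j h => (s.π.app ⟨⟨(p, j), h⟩⟩).app T x
          map_zero' := by funext p j h; exact map_zero _
          map_add' := fun x y => by funext p j h; exact map_add _ _ _ }
      naturality := fun T T' a => by
        refine AddCommGrpCat.hom_ext (AddMonoidHom.ext fun x => ?_)
        funext p j h
        exact NatTrans.naturality_apply (s.π.app ⟨⟨(p, j), h⟩⟩) a x }
  fac s := fun ⟨⟨(p, j), h⟩⟩ => by ext T x; rfl
  uniq s m hm := by
    refine NatTrans.ext (funext fun T => AddCommGrpCat.hom_ext (AddMonoidHom.ext fun x => ?_))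
    funext p j h
    exact ConcreteCategory.congr_hom (congrArg (fun φ : s.pt ⟶ (totFun f I n ⋙ sheafToPresheaf _ _).obj ⟨⟨(p, j), h⟩⟩ =>
      φ.app T) (hm ⟨⟨(p, j), h⟩⟩)) x

theorem isSheaf_totPre (n : ℤ) : Presheaf.IsSheaf (QuotSh.J K S) (totPre (datum f) (preCx I) n) :=
  Sheaf.isSheaf_of_isLimit (totFun f I n) (totCone f I n) (totConeIsLimit f I n)

/-- the total complex as sheaves -/
noncomputable def totShCx : CochainComplex (BigSite.Ab K S) ℤ where
  X n := ⟨totPre (datum f) (preCx I) n, isSheaf_totPre f I n⟩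
  d i j := ⟨(totCx (datum f) (preCx I)).d i j⟩
  shape i j h := Sheaf.hom_ext ((totCx (datum f) (preCx I)).shape i j h)
  d_comp_d' i j k _ _ := Sheaf.hom_ext ((totCx (datum f) (preCx I)).d_comp_d i j k)

theorem injective_totShCx [∀ n, Injective (I.X n)] (n : ℤ) : Injective ((totShCx f I).X n) := by
  refine ⟨fun {A B} φ ι _ => ?_⟩
  haveI := fun s : TotIdx n => injective_colSh f s.1.1 (I.X s.1.2)
  let comp : ∀ s : TotIdx n, A ⟶ colSh f s.1.1 (I.X s.1.2) := fun s => ⟨φ.hom ≫ (totCone f I n).π.app ⟨s⟩⟩
  let s : Cone (totFun f I n ⋙ sheafToPresheaf _ _) :=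
    { pt := B.obj, π := Discrete.natTrans fun s => (Injective.factorThru (comp s.as) ι).hom }
  refine ⟨⟨(totConeIsLimit f I n).lift s⟩, Sheaf.hom_ext ((totConeIsLimit f I n).hom_ext fun ⟨k⟩ => ?_)⟩
  refine (Category.assoc _ _ _).trans ((congrArg (ι.hom ≫ ·) ((totConeIsLimit f I n).fac s ⟨k⟩)).trans ?_)
  exact congrArg (fun ψ : A ⟶ colSh f k.1.1 (I.X k.1.2) => ψ.hom) (Injective.comp_factorThru (comp k) ι)

theorem isStrictlyGE_totShCx [I.IsStrictlyGE 0] : (totShCx f I).IsStrictlyGE 0 := by
  rw [CochainComplex.isStrictlyGE_iff]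
  intro n hn
  rw [IsZero.iff_id_eq_zero]
  refine Sheaf.hom_ext (NatTrans.ext (funext fun T => AddCommGrpCat.hom_ext (AddMonoidHom.ext fun z => ?_)))
  funext p j h
  haveI : Subsingleton (((I.X j).obj.obj (op (((datum f).Q p).obj T.unop)))) :=
    AddCommGrpCat.subsingleton_of_isZero ((secF (((datum f).Q p).obj T.unop)).map_isZero
      (I.isZero_of_isStrictlyGE 0 j (by omega)))
  exact Subsingleton.elim (α := (I.X j).obj.obj (op (((datum f).Q p).obj T.unop))) _ _

/-- local exactness gives exactness -/
theorem exactAtObj_of_lexact [I.IsStrictlyGE 0] [∀ n, Injective (I.X n)]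
    (h : ∀ n, LExact (QuotSh.J K S) (totCx (datum f) (preCx I)) n) (T : Over S) :
    ExactAtObj (totCx (datum f) (preCx I)) T := by
  haveI := isStrictlyGE_totShCx f I
  haveI := injective_totShCx f I
  haveI := CochainComplex.isKInjective_of_injective (totShCx f I) 0
  have hac : (totShCx f I).Acyclic := fun n => (exactAt_iff_lexact _ n).2 (h n)
  let H := CochainComplex.IsKInjective.homotopyZero (𝟙 (totShCx f I)) hac
  intro n z hz
  have e := ConcreteCategory.congr_hom
    (congrArg (fun φ : (totShCx f I).X n ⟶ (totShCx f I).X n => φ.hom.app (op T)) (H.comm n)) z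
  rw [prevD_eq _ (show (ComplexShape.up ℤ).Rel (n - 1) n by simp),
    dNext_eq _ (show (ComplexShape.up ℤ).Rel n (n + 1) by simp)] at e
  refine ⟨(H.hom n (n - 1)).hom.app (op T) z, ?_⟩
  refine Eq.trans ?_ e.symm
  have hz' : ((totShCx f I).d n (n + 1)).hom.app (op T) z = 0 := hz
  show ((totShCx f I).d (n - 1) n).hom.app (op T) ((H.hom n (n - 1)).hom.app (op T) z) =
    (H.hom (n + 1) n).hom.app (op T) (((totShCx f I).d n (n + 1)).hom.app (op T) z) +
    ((totShCx f I).d (n - 1) n).hom.app (op T) ((H.hom n (n - 1)).hom.app (op T) z) +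
    (0 : (totShCx f I).X n ⟶ (totShCx f I).X n).hom.app (op T) z
  rw [hz', map_zero, zero_add]
  exact (add_zero _).symm

end Groth.L27.FppfCmp
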